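import Cfsg.Agent.PrimeIndex.Basic
import Cfsg.Agent.Lib.Fusion.Criterion
import Cfsg.Agent.Fus93.Iso

/-!
# The system of the maps with class in `D` is saturated
-/

set_option autoImplicit false

namespace Cfsg.Agent.PrimeIndex

open Cfsg Cfsg.Agent.Fusion Cfsg.Agent.Fusion.PrimeToP
open Cfsg.FusionSystem (normalizerIn centralizerIn)

variable {Ω : Type*} [Group Ω] {S : Subgroup Ω} {F : FusionSystem S} {p : ℕ}
  {D : Subgroup (MulAut S)}

/-- A map between fully normalized subgroups that extends, within its class, to `P C_S(P)`. -/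
def Good (F : FusionSystem S) (p : ℕ) (D : Subgroup (MulAut S)) (P : Subgroup Ω) (f : Ω → Ω) : Prop :=
  F.IsFullyNormalized P ∧ ∃ P₁, IsIso F P P₁ f ∧ F.IsFullyNormalized P₁ ∧
    ∃ ψ, FD F p D (P ⊔ centralizerIn S P) ψ ∧ Set.EqOn ψ f P

/-- A generated map of the normalizer onto a fully normalized conjugate. -/
def Tr (F : FusionSystem S) (p : ℕ) (R : Subgroup Ω) (g : Ω → Ω) : Prop :=
  Gen F p (normalizerIn S R) g ∧ ∃ R₀, IsIso F R R₀ g ∧ F.IsFullyNormalized R₀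

/-- `f` becomes good after translating source and target to fully normalized subgroups. -/
def GoodStar (F : FusionSystem S) (p : ℕ) (D : Subgroup (MulAut S)) (R : Subgroup Ω) (f : Ω → Ω) :
    Prop :=
  IsMap F R f ∧ ∀ R' R₀ g g' gi, IsIso F R R' f → Tr F p R g → IsIso F R R₀ g → Tr F p R' g' →
    IsIso F R₀ R gi → (∀ x ∈ R, gi (g x) = x) → Good F p D R₀ (g' ∘ f ∘ gi)

theorem Good.congr {P : Subgroup Ω} {f f' : Ω → Ω} (h : Good F p D P f) (he : Set.EqOn f f' P) :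
    Good F p D P f' :=
  let ⟨hn, P₁, h1, h2, ψ, h3, h4⟩ := h
  ⟨hn, P₁, h1.congr he, h2, ψ, h3, h4.trans he⟩

theorem GoodStar.congr {P : Subgroup Ω} {f f' : Ω → Ω} (h : GoodStar F p D P f)
    (he : Set.EqOn f f' P) : GoodStar F p D P f' :=
  ⟨h.1.congr he, fun R' R₀ g g' gi h1 h2 h3 h4 h5 h6 =>
    (h.2 R' R₀ g g' gi (h1.congr he.symm) h2 h3 h4 h5 h6).congr fun x hx => by
      simp only [Function.comp_apply]
      rw [he (h5.mem hx)]⟩

theorem good_of_centric {P P₁ : Subgroup Ω} {f : Ω → Ω} (hP : F.IsFullyNormalized P)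
    (hc : F.IsCentric P) (hf : FD F p D P f) (hi : IsIso F P P₁ f) (h₁ : F.IsFullyNormalized P₁) :
    Good F p D P f :=
  ⟨hP, P₁, hi, h₁, f, hf.mono (sup_le le_rfl (hc.2 P (isConj_refl hc.1))), fun _ _ => rfl⟩

section Finite

variable [Finite S] [Fact p.Prime]

theorem Good.isIso_sup (hS : IsPGroup p S) (hF : F.IsSaturated p) {P P₁ : Subgroup Ω}
    (hP : F.IsFullyNormalized P) (hP₁ : F.IsFullyNormalized P₁) {f ψ : Ω → Ω} (hi : IsIso F P P₁ f)
    (hψ : IsMap F (P ⊔ centralizerIn S P) ψ) (he : Set.EqOn ψ f P) :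
    IsIso F (P ⊔ centralizerIn S P) (P₁ ⊔ centralizerIn S P₁) ψ := by
  have him : ψ '' (P : Set Ω) = (P₁ : Set Ω) := (Set.image_congr he).trans hi.2
  refine IsIso.sup hψ him (Set.Subset.antisymm ?_ fun y hy => ?_)
  · rintro _ ⟨x, hx, rfl⟩
    exact map_mem_centralizer hψ le_sup_left him (le_sup_right (a := P) hx) hx.2
  · exact surjOn_of_card_le inf_le_left (hψ.injOn.mono fun x hx => le_sup_right (a := P) hx)
      (fun x hx => map_mem_centralizer hψ le_sup_left him (le_sup_right (a := P) hx) hx.2)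
      ((fullyCentralized_of_fullyNormalized hS hF hP).2 P₁ hi.isConj) y hy

theorem Good.comp (hS : IsPGroup p S) (hF : F.IsSaturated p) {P P₁ : Subgroup Ω} {f f' : Ω → Ω}
    (h : Good F p D P f) (hi : IsIso F P P₁ f) (h' : Good F p D P₁ f') : Good F p D P (f' ∘ f) := by
  obtain ⟨hn, P₁', hi', hn₁, ψ, hψ, he⟩ := h
  obtain rfl := hi'.cod_unique hi
  obtain ⟨-, P₂, hi₂, hn₂, ψ', hψ', he'⟩ := h'
  refine ⟨hn, P₂, hi.comp hi₂, hn₂, ψ' ∘ ψ,
    hψ.comp hψ' fun x hx => (Good.isIso_sup hS hF hn hn₁ hi hψ.isMap he).mem hx, fun x hx => ?_⟩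
  simp only [Function.comp_apply]
  rw [he hx, he' (hi.mem hx)]

theorem Good.inv (hS : IsPGroup p S) (hF : F.IsSaturated p) {P P₁ : Subgroup Ω} {f fi : Ω → Ω}
    (h : Good F p D P f) (hi : IsIso F P P₁ f) (hl : ∀ x ∈ P, fi (f x) = x) : Good F p D P₁ fi := by
  obtain ⟨hn, P₁', hi', hn₁, ψ, hψ, he⟩ := h
  obtain rfl := hi'.cod_unique hi
  obtain ⟨k, hk, hkl, -⟩ := (Good.isIso_sup hS hF hn hn₁ hi hψ.isMap he).exists_inv
  obtain ⟨g, hg, hgl, -⟩ := hi.exists_inv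
  refine ⟨hn₁, P, hg.congr fun y hy => ?_, hn, k,
    hψ.inv (Good.isIso_sup hS hF hn hn₁ hi hψ.isMap he) hkl, fun y hy => ?_⟩
  · obtain ⟨x, hx, rfl⟩ := hi.exists_preimage hy
    rw [hgl x hx, hl x hx]
  · obtain ⟨x, hx, rfl⟩ := hi.exists_preimage hy
    rw [hl x hx, ← he hx, hkl x (le_sup_left (b := centralizerIn S P) hx)]

theorem exists_tr (hS : IsPGroup p S) (hF : F.IsSaturated p) {R : Subgroup Ω} (hR : R ≤ S) :
    ∃ g R₀, Tr F p R g ∧ IsIso F R R₀ g ∧ F.IsFullyNormalized R₀ :=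
  let ⟨g, R₀, hg, hi, hn⟩ := exists_gen_normalizer hS hF hR
  ⟨g, R₀, ⟨hg, R₀, hi, hn⟩, hi, hn⟩

theorem isFullyNormalized_of_tr {R R₀ : Subgroup Ω} {g : Ω → Ω} (h : Tr F p R g)
    (hi : IsIso F R R₀ g) : F.IsFullyNormalized R₀ := by
  obtain ⟨-, R₀', hi', hn⟩ := h
  exact hi.cod_unique hi' ▸ hn

theorem GoodStar.comp (hS : IsPGroup p S) (hF : F.IsSaturated p) {R R' : Subgroup Ω} {f f' : Ω → Ω}
    (h : GoodStar F p D R f) (hi : IsIso F R R' f) (h' : GoodStar F p D R' f') :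
    GoodStar F p D R (f' ∘ f) := by
  refine ⟨hi.comp_map h'.1, fun R'' R₀ g g'' gi h1 hg hgR hg'' hgi hgl => ?_⟩
  obtain ⟨g', R₁, hg', hg'R, -⟩ := exists_tr hS hF hi.cod_le
  obtain ⟨g'i, hg'i, hg'l, -⟩ := hg'R.exists_inv
  have hiso : IsIso F R' R'' f' := ⟨h'.1, by rw [← hi.2, ← Set.image_comp]; exact h1.2⟩
  refine (Good.comp hS hF (h.2 R' R₀ g g' gi hi hg hgR hg' hgi hgl) ((hgi.comp hi).comp hg'R)
    (h'.2 R'' R₁ g' g'' g'i hiso hg' hg'R hg'' hg'i hg'l)).congr fun x hx => ?_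
  simp only [Function.comp_apply]
  rw [hg'l _ (hi.mem (hgi.mem hx))]

theorem GoodStar.inv (hS : IsPGroup p S) (hF : F.IsSaturated p) {R R' : Subgroup Ω} {f fi : Ω → Ω}
    (h : GoodStar F p D R f) (hi : IsIso F R R' f) (hl : ∀ x ∈ R, fi (f x) = x) :
    GoodStar F p D R' fi := by
  obtain ⟨k, hk, hkl, -⟩ := hi.exists_inv
  have hfi : IsIso F R' R fi := hk.congr fun y hy => by
    obtain ⟨x, hx, rfl⟩ := hi.exists_preimage hy
    rw [hkl x hx, hl x hx]
  refine ⟨hfi.1, fun R'' R₀ g g' gi h1 hg hgR hg' hgi hgl => ?_⟩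
  obtain rfl := hfi.cod_unique h1
  obtain ⟨R₁, hg'R, -⟩ := id hg'.2
  obtain ⟨g'i, hg'i, hg'l, -⟩ := hg'R.exists_inv
  refine Good.inv hS hF (h.2 R' R₁ g' g g'i hi hg' hg'R hg hg'i hg'l) ((hg'i.comp hi).comp hgR)
    fun x hx => ?_
  obtain ⟨y, hy, rfl⟩ := hg'R.exists_preimage hx
  simp only [Function.comp_apply]
  rw [hg'l y hy, hgl _ (hi.mem hy), hl y hy]

/-- For a map in the class of a centric subgroup or of a strictly bigger subgroup, by induction on
the subgroup on which it is in the class. -/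
theorem key (hS : IsPGroup p S) (hF : F.IsSaturated p) (hH : H0 F p ≤ D) {P : Subgroup Ω}
    (hbig : ∀ (R R' : Subgroup Ω) (f : Ω → Ω), Nat.card P < Nat.card R → F.IsFullyNormalized R → FD F p D R f →
      IsIso F R R' f → F.IsFullyNormalized R' → Good F p D R f) :
    ∀ (k : ℕ) (Q Q₁ M : Subgroup Ω) (σ : Ω → Ω), Nat.card S - Nat.card M = k →
      Nat.card Q = Nat.card P → Q < M → M ≤ normalizerIn S Q → FD F p D M σ →
      F.IsFullyNormalized Q → IsIso F Q Q₁ σ → F.IsFullyNormalized Q₁ → Good F p D Q σ := by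
  intro k
  induction k using Nat.strong_induction_on with
  | _ k ih =>
  intro Q Q₁ M σ hk hQP hQM hMN hσ hQn hσQ hQ₁n
  have hMS : M ≤ S := hMN.trans inf_le_left
  by_cases hMc : F.IsCentric M
  · set N := Q ⊔ (M ⊔ centralizerIn S Q) with hNdef
    have hσM : IsExtendable S Q σ M := ⟨hMS, fun g hg =>
      ⟨(hMN hg).2, σ g, hσ.isMap.apply_mem hg, fun x hx => hσ.isMap.map_conj hg (hQM.le hx)⟩⟩
    obtain ⟨φ, -, hφf⟩ := id hσQ.1
    have hext : IsExtendable S Q σ (M ⊔ centralizerIn S Q) := by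
      have hle : M ⊔ centralizerIn S Q ≤ FusionSystem.extender S Q φ :=
        sup_le (le_extender_of_isExtendable hφf hσM)
          (le_extender_of_isExtendable hφf (isExtendable_centralizerIn σ))
      exact ⟨hle.trans (isExtendable_extender hφf).1, fun g hg => (isExtendable_extender hφf).2 g (hle hg)⟩
    obtain ⟨ψ, hψ, hψe⟩ := receptive_extend (receptive_of_fullyNormalized hS hF hQ₁n) hσQ hext
    have hN : N ≤ normalizerIn S Q :=
      sup_le (le_normalizerIn hQn.1) (sup_le hMN (centralizerIn_le_normalizerIn S Q))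
    obtain ⟨ψ', hψ', he⟩ := transfer hS hF hH hQM.le hMc (le_sup_left.trans le_sup_right : M ≤ N) hN
      hσ hσQ hQ₁n hψ hψe
    exact ⟨hQn, Q₁, hσQ, hQ₁n, ψ', hψ'.mono (sup_le le_sup_left (le_sup_right.trans le_sup_right)), he⟩
  have hNc : F.IsCentric (normalizerIn S Q) :=
    Fus93.isCentric_of_le (isCentric_sup_centralizer (fullyCentralized_of_fullyNormalized hS hF hQn))
      (sup_le (le_normalizerIn hQn.1) (centralizerIn_le_normalizerIn S Q)) inf_le_left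
  have hMlt : M < normalizerIn S Q := lt_of_le_of_ne hMN fun h => hMc (h ▸ hNc)
  haveI : Finite (normalizerIn S Q) := finite_of_le (normalizerIn_le S Q)
  haveI := finite_of_le hMS
  set Y := normalizerIn (normalizerIn S Q) M with hYdef
  have hMY : M < Y := lt_normalizerIn (hS.to_le (normalizerIn_le S Q)) hMlt
  have hYNM : Y ≤ normalizerIn S M := fun y hy => ⟨(hy.1).1, hy.2⟩
  obtain ⟨M', hσM⟩ := hσ.isMap.exists_image
  have hQ₁M' : Q₁ ≤ M' := fun y hy => by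
    obtain ⟨x, hx, rfl⟩ := hσQ.exists_preimage hy
    exact hσM.mem (hQM.le hx)
  have hM'N : M' ≤ normalizerIn S Q₁ := fun y hy => by
    obtain ⟨x, hx, rfl⟩ := hσM.exists_preimage hy
    exact map_mem_normalizer hσ.isMap hQM.le hσQ.2 hx (hMN hx).2
  have hNc₁ : F.IsCentric (normalizerIn S Q₁) :=
    Fus93.isCentric_of_le (isCentric_sup_centralizer (fullyCentralized_of_fullyNormalized hS hF hQ₁n))
      (sup_le (le_normalizerIn hQ₁n.1) (centralizerIn_le_normalizerIn S Q₁)) inf_le_left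
  have hM'lt : M' < normalizerIn S Q₁ := lt_of_le_of_ne hM'N fun h =>
    hMc (PrimeToP.isCentric_of_isConj (h ▸ hNc₁) (isConj_symm hσM.isConj))
  haveI : Finite (normalizerIn S Q₁) := finite_of_le (normalizerIn_le S Q₁)
  set Y₁ := normalizerIn (normalizerIn S Q₁) M' with hY₁def
  have hM'Y₁ : M' < Y₁ := lt_normalizerIn (hS.to_le (normalizerIn_le S Q₁)) hM'lt
  have hY₁NM : Y₁ ≤ normalizerIn S M' := fun y hy => ⟨(hy.1).1, hy.2⟩
  -- the translations of `M` and `σ M`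
  obtain ⟨h, M₀, hh, hhM, hM₀n⟩ := exists_tr hS hF hMS
  obtain ⟨hi, hhi, hhl, -⟩ := hhM.exists_inv
  obtain ⟨g₁, M₁, hg₁, hg₁M, hM₁n⟩ := exists_tr hS hF hσM.cod_le
  have hhMap : Gen F p M h := hh.1.mono (le_normalizerIn hMS)
  have hg₁Map : Gen F p M' g₁ := hg₁.1.mono (le_normalizerIn hσM.cod_le)
  set τ := g₁ ∘ σ ∘ hi with hτdef
  have hτ : FD F p D M₀ τ :=
    (((fd_of_gen (D := D) hhMap).inv hhM hhl).comp hσ fun x hx => hhi.mem hx).comp (fd_of_gen hg₁Map)
      fun x hx => hσM.mem (hhi.mem hx)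
  have hτM : IsIso F M₀ M₁ τ := (hhi.comp hσM).comp hg₁M
  have hMcard : Nat.card P < Nat.card M₀ := by
    rw [← hQP, ← hhM.card_eq]
    exact lt_of_le_of_ne (Subgroup.card_le_of_le hQM.le) fun he =>
      hQM.ne (Subgroup.eq_of_le_of_card_ge hQM.le he.ge)
  obtain ⟨-, M₁', hτM', -, ψ, hψ, hψe⟩ := hbig M₀ M₁ τ hMcard hM₀n hτ hτM hM₁n
  -- the images of `Q` and `Q₁`
  obtain ⟨Q', hQ'M₀, hhQ⟩ := hhM.restrict hQM.le
  obtain ⟨Q₁', hQ₁'M₁, hg₁Q⟩ := hg₁M.restrict hQ₁M'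
  have hτQ : IsIso F Q' Q₁' τ := by
    refine ⟨hτM.1.mono hQ'M₀, ?_⟩
    rw [← hhQ.2, ← hg₁Q.2, ← hσQ.2, Set.image_image, Set.image_image]
    exact Set.image_congr fun x hx => by simp [hτdef, hhl x (hQM.le hx)]
  have hL : M₀ ⊔ centralizerIn S M₀ ≤ normalizerIn S Q' := sup_le (fun y hy => by
      obtain ⟨x, hx, rfl⟩ := hhM.exists_preimage hy
      exact map_mem_normalizer hhM.1 hQM.le hhQ.2 hx (hMN hx).2)
    (fun y hy => ⟨hy.1, Subgroup.centralizer_le_normalizer _ (Subgroup.centralizer_le hQ'M₀ hy.2)⟩)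
  have hψQ : ψ '' (Q' : Set Ω) = (Q₁' : Set Ω) :=
    (Set.image_congr fun x hx => hψe (hQ'M₀ hx)).trans hτQ.2
  have hψN : ∀ y ∈ M₀ ⊔ centralizerIn S M₀, ψ y ∈ normalizerIn S Q₁' := fun y hy =>
    map_mem_normalizer hψ.isMap (hQ'M₀.trans le_sup_left) hψQ hy (hL hy).2
  obtain ⟨v₀, Q₂, hv₀, hv₀Q, hQ₂n⟩ := exists_tr hS hF (hhQ.cod_le)
  obtain ⟨v₁, Q₃, hv₁, hv₁Q, hQ₃n⟩ := exists_tr hS hF (hg₁Q.cod_le)
  have hv₀L : Gen F p (M₀ ⊔ centralizerIn S M₀) v₀ := hv₀.1.mono hL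
  obtain ⟨X, hX⟩ := hv₀L.isMap.exists_image
  obtain ⟨v₀i, hv₀i, hv₀l, -⟩ := hX.exists_inv
  set x := v₁ ∘ ψ ∘ v₀i with hxdef
  have hxX : FD F p D X x :=
    (((fd_of_gen (D := D) hv₀L).inv hX hv₀l).comp hψ fun y hy => hv₀i.mem hy).comp
      (fd_of_gen hv₁.1) fun y hy => hψN _ (hv₀i.mem hy)
  have hQ'L : Q' ≤ M₀ ⊔ centralizerIn S M₀ := hQ'M₀.trans le_sup_left
  have hxQ : IsIso F Q₂ Q₃ x := by
    have hQ₂X : Q₂ ≤ X := fun y hy => by
      obtain ⟨z, hz, rfl⟩ := hv₀Q.exists_preimage hy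
      exact hX.mem (hQ'L hz)
    refine ⟨hxX.isMap.mono hQ₂X, ?_⟩
    rw [← hv₀Q.2, ← hv₁Q.2, ← hτQ.2, Set.image_image, Set.image_image]
    exact Set.image_congr fun z hz => by
      simp only [hxdef, Function.comp_apply]
      rw [hv₀l z (hQ'L hz), hψe (hQ'M₀ hz)]
  have hQ₂X : Q₂ < X := by
    refine lt_of_le_of_ne (fun y hy => ?_) fun he => ?_
    · obtain ⟨z, hz, rfl⟩ := hv₀Q.exists_preimage hy
      exact hX.mem (hQ'L hz)
    · have h1 : Nat.card Q₂ = Nat.card Q := by rw [← hv₀Q.card_eq, ← hhQ.card_eq]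
      have h2 : Nat.card X = Nat.card ↥(M₀ ⊔ centralizerIn S M₀) := hX.card_eq.symm
      have h3 : Nat.card M₀ ≤ Nat.card ↥(M₀ ⊔ centralizerIn S M₀) := by
        haveI := finite_of_le (sup_le hM₀n.1 inf_le_left : M₀ ⊔ centralizerIn S M₀ ≤ S)
        exact Subgroup.card_le_of_le le_sup_left
      rw [he] at h1
      omega
  have hXN : X ≤ normalizerIn S Q₂ := fun y hy => by
    obtain ⟨z, hz, rfl⟩ := hX.exists_preimage hy
    exact map_mem_normalizer hX.1 hQ'L hv₀Q.2 hz (hL hz).2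
  have hXc : F.IsCentric X := PrimeToP.isCentric_of_isConj
    (isCentric_sup_centralizer (fullyCentralized_of_fullyNormalized hS hF hM₀n)) hX.isConj
  have hGx : Good F p D Q₂ x := by
    have hxQ' := hxQ
    set N := Q₂ ⊔ (X ⊔ centralizerIn S Q₂) with hNdef
    obtain ⟨φ, -, hφf⟩ := id hxQ.1
    have hle : X ⊔ centralizerIn S Q₂ ≤ FusionSystem.extender S Q₂ φ :=
      sup_le (le_extender_of_isExtendable hφf ⟨hX.cod_le, fun g hg =>
        ⟨(hXN hg).2, x g, hxX.isMap.apply_mem hg, fun y hy => hxX.isMap.map_conj hg (hQ₂X.le hy)⟩⟩)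
        (le_extender_of_isExtendable hφf (isExtendable_centralizerIn x))
    obtain ⟨ψ₂, hψ₂, hψ₂e⟩ := receptive_extend (receptive_of_fullyNormalized hS hF hQ₃n) hxQ
      ⟨hle.trans (isExtendable_extender hφf).1, fun g hg => (isExtendable_extender hφf).2 g (hle hg)⟩
    obtain ⟨ψ₃, hψ₃, he⟩ := transfer hS hF hH hQ₂X.le hXc (le_sup_left.trans le_sup_right : X ≤ N)
      (sup_le (le_normalizerIn hQ₂n.1) (sup_le hXN (centralizerIn_le_normalizerIn S Q₂)))
      hxX hxQ hQ₃n hψ₂ hψ₂e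
    exact ⟨hQ₂n, Q₃, hxQ, hQ₃n, ψ₃, hψ₃.mono (sup_le le_sup_left (le_sup_right.trans le_sup_right)), he⟩
  -- the two outer maps
  have hj₀ : Good F p D Q (v₀ ∘ h) := by
    have hYh : ∀ y ∈ Y, h y ∈ normalizerIn S Q' := fun y hy =>
      map_mem_normalizer (hh.1.isMap.mono hYNM) (hQM.le.trans hMY.le) hhQ.2 hy hy.1.2
    haveI := finite_of_le ((normalizerIn_le (normalizerIn S Q) M).trans (normalizerIn_le S Q))
    refine ih _ ?_ Q Q₂ Y _ rfl hQP (hQM.trans hMY) inf_le_left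
      ((fd_of_gen (hh.1.mono hYNM)).comp (fd_of_gen hv₀.1) hYh) hQn (hhQ.comp hv₀Q) hQ₂n
    have h1 : Nat.card M < Nat.card Y := lt_of_le_of_ne (Subgroup.card_le_of_le hMY.le) fun he =>
      hMY.ne (Subgroup.eq_of_le_of_card_ge hMY.le he.ge)
    have h2 : Nat.card Y ≤ Nat.card S :=
      Subgroup.card_le_of_le ((normalizerIn_le (normalizerIn S Q) M).trans (normalizerIn_le S Q))
    omega
  have hj₁ : Good F p D Q₁ (v₁ ∘ g₁) := by
    have hYh : ∀ y ∈ Y₁, g₁ y ∈ normalizerIn S Q₁' := fun y hy =>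
      map_mem_normalizer (hg₁.1.isMap.mono hY₁NM) (hQ₁M'.trans hM'Y₁.le) hg₁Q.2 hy hy.1.2
    haveI := finite_of_le ((normalizerIn_le (normalizerIn S Q₁) M').trans (normalizerIn_le S Q₁))
    haveI := finite_of_le hσM.cod_le
    have hQ₁lt : Q₁ < M' := by
      refine lt_of_le_of_ne hQ₁M' fun he => hQM.ne (Subgroup.eq_of_le_of_card_ge hQM.le ?_)
      rw [hσM.card_eq, hσQ.card_eq, he]
    refine ih _ ?_ Q₁ Q₃ Y₁ _ rfl (hσQ.card_eq.symm.trans hQP) (hQ₁lt.trans hM'Y₁) inf_le_left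
      ((fd_of_gen (hg₁.1.mono hY₁NM)).comp (fd_of_gen hv₁.1) hYh) hQ₁n (hg₁Q.comp hv₁Q) hQ₃n
    have h1 : Nat.card M' < Nat.card Y₁ := lt_of_le_of_ne (Subgroup.card_le_of_le hM'Y₁.le) fun he =>
      hM'Y₁.ne (Subgroup.eq_of_le_of_card_ge hM'Y₁.le he.ge)
    have h2 : Nat.card Y₁ ≤ Nat.card S :=
      Subgroup.card_le_of_le ((normalizerIn_le (normalizerIn S Q₁) M').trans (normalizerIn_le S Q₁))
    have h3 := hσM.card_eq
    omega
  obtain ⟨ji, -, hjil, -⟩ := (hg₁Q.comp hv₁Q).exists_inv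
  refine ((hj₀.comp hS hF (hhQ.comp hv₀Q) hGx).comp hS hF ((hhQ.comp hv₀Q).comp hxQ)
    (hj₁.inv hS hF (hg₁Q.comp hv₁Q) hjil)).congr fun z hz => ?_
  simp only [hxdef, hτdef, Function.comp_apply]
  rw [hv₀l _ (hQ'L (hhQ.mem hz)), hψe (hQ'M₀ (hhQ.mem hz))]
  simp only [hτdef, Function.comp_apply]
  rw [hhl z (hQM.le hz)]
  exact hjil _ (hσQ.mem hz)

/-- Every map in the class of a subgroup is good after translation. -/
theorem goodStar_of_fd (hS : IsPGroup p S) (hF : F.IsSaturated p) (hH : H0 F p ≤ D) :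
    ∀ (n : ℕ) (R : Subgroup Ω) (f : Ω → Ω), Nat.card S - Nat.card R = n → FD F p D R f →
      GoodStar F p D R f := by
  intro n
  induction n using Nat.strong_induction_on with
  | _ n ih =>
  intro R₁ f₁ hn hf₁
  have hbig : ∀ (R R' : Subgroup Ω) (f : Ω → Ω), Nat.card R₁ < Nat.card R → F.IsFullyNormalized R → FD F p D R f →
      IsIso F R R' f → F.IsFullyNormalized R' → Good F p D R f := by
    intro R R' f hlt hRn hf hi hR'n
    have h2 : Nat.card R ≤ Nat.card S := Subgroup.card_le_of_le hRn.1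
    exact ((ih _ (by omega) R f rfl hf).2 R' R id id id hi
      ⟨gen_id inf_le_left, R, isIso_id hRn.1, hRn⟩ (isIso_id hRn.1)
      ⟨gen_id inf_le_left, R', isIso_id hR'n.1, hR'n⟩ (isIso_id hRn.1) fun _ _ => rfl).congr
      fun _ _ => rfl
  -- restrictions of maps in the class of a centric subgroup
  have base : ∀ (X R : Subgroup Ω) (σ : Ω → Ω), F.IsCentric X → FD F p D X σ → R ≤ X →
      Nat.card R = Nat.card R₁ → GoodStar F p D R σ := by
    intro X R σ hXc hσ hRX hcard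
    refine ⟨(hσ.mono hRX).isMap, fun R' R₀ g g' gi hσR hg hgR hg' hgi hgl => ?_⟩
    have hRS : R ≤ S := hσR.dom_le
    obtain ⟨R₂, hg'R, hR₂n⟩ := id hg'.2
    rcases hRX.eq_or_lt with rfl | hlt
    · exact good_of_centric (isFullyNormalized_of_tr hg hgR)
        (PrimeToP.isCentric_of_isConj hXc hgR.isConj)
        ((((fd_of_gen (hg.1.mono (le_normalizerIn hRS))).inv hgR hgl).comp hσ fun y hy => hgi.mem hy).comp
          (fd_of_gen (hg'.1.mono (le_normalizerIn hσR.cod_le))) fun y hy => hσR.mem (hgi.mem hy))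
        ((hgi.comp hσR).comp hg'R) hR₂n
    haveI := finite_of_le hXc.1
    set Y := normalizerIn X R with hY
    have hRY : R < Y := lt_normalizerIn (hS.to_le hXc.1) hlt
    have hYN : Y ≤ normalizerIn S R := fun y hy => ⟨hXc.1 hy.1, hy.2⟩
    obtain ⟨M, hgM⟩ := (hg.1.isMap.mono hYN).exists_image
    obtain ⟨gj, hgj, hgjl, -⟩ := hgM.exists_inv
    haveI := finite_of_le (hYN.trans (normalizerIn_le S R))
    have hR₀M : R₀ < M := by
      refine lt_of_le_of_ne (fun y hy => ?_) fun he => hRY.ne (Subgroup.eq_of_le_of_card_ge hRY.le ?_)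
      · obtain ⟨z, hz, rfl⟩ := hgR.exists_preimage hy
        exact hgM.mem (hRY.le hz)
      · rw [hgM.card_eq, ← he, ← hgR.card_eq]
    have hMN : M ≤ normalizerIn S R₀ := fun y hy => by
      obtain ⟨z, hz, rfl⟩ := hgM.exists_preimage hy
      exact map_mem_normalizer hgM.1 hRY.le hgR.2 hz hz.2
    have hσY : ∀ y ∈ Y, σ y ∈ normalizerIn S R' := fun y hy =>
      map_mem_normalizer (hσ.isMap.mono inf_le_left) hRY.le hσR.2 hy hy.2
    have hfd : FD F p D M (g' ∘ σ ∘ gj) :=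
      (((fd_of_gen (hg.1.mono hYN)).inv hgM hgjl).comp (hσ.mono inf_le_left) fun y hy => hgj.mem hy).comp
        (fd_of_gen hg'.1) fun y hy => hσY _ (hgj.mem hy)
    have he : Set.EqOn (g' ∘ σ ∘ gi) (g' ∘ σ ∘ gj) R₀ := fun y hy => by
      obtain ⟨z, hz, rfl⟩ := hgR.exists_preimage hy
      simp only [Function.comp_apply]
      rw [hgl z hz, hgjl z (hRY.le hz)]
    exact (key hS hF hH hbig _ R₀ R₂ M _ rfl (hgR.card_eq.symm.trans hcard) hR₀M hMN hfd
      (isFullyNormalized_of_tr hg hgR) (((hgi.comp hσR).comp hg'R).congr he) hR₂n).congr he.symm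
  have hgen : ∀ {X : Subgroup Ω} {g : Ω → Ω}, Gen F p X g → ∀ R ≤ X, Nat.card R = Nat.card R₁ →
      GoodStar F p D R g := by
    intro X g hg
    induction hg with
    | @conj P s hP hs =>
      intro R hR hc
      exact base S R _ isCentric_self (fd_of_gen (Gen.conj le_rfl hs)) (hR.trans hP) hc
    | @aut P Q a hQ ha hk hPQ =>
      intro R hR hc
      exact base Q R _ hQ (fd_of_gen (Gen.aut hQ ha hk le_rfl)) (hR.trans hPQ) hc
    | @comp P Q u v hu _ hm ihu ihv =>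
      intro R hR hc
      obtain ⟨R', hR'⟩ := (hu.isMap.mono hR).exists_image
      refine GoodStar.comp hS hF (ihu R hR hc) hR' (ihv R' (fun y hy => ?_) (hR'.card_eq.symm.trans hc))
      obtain ⟨z, hz, rfl⟩ := hR'.exists_preimage hy
      exact hm z (hR hz)
    | @inv P Q u v hu him hl ihu =>
      intro R hR hc
      have hi : IsIso F P Q u := ⟨hu.isMap, him⟩
      obtain ⟨k, hk, hkl, -⟩ := hi.exists_inv
      obtain ⟨R', hR'P, hR'⟩ := hk.restrict hR
      obtain ⟨ki, hki, hkil, -⟩ := hR'.exists_inv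
      have hu' : IsIso F R' R u := hki.congr fun y hy => by
        obtain ⟨z, hz, rfl⟩ := hR'.exists_preimage hy
        rw [hkil z hz]
        obtain ⟨w, hw, rfl⟩ := hi.exists_preimage (hR hz)
        rw [hkl w hw]
      exact GoodStar.inv hS hF (ihu R' hR'P (hR'.card_eq.symm.trans hc)) hu' fun z hz => hl z (hR'P hz)
    | @congr P u v _ he ih =>
      intro R hR hc
      exact (ih R hR hc).congr (he.mono hR)
  obtain ⟨a, haD, haA, g, hg, he⟩ := hf₁
  obtain ⟨R', hR'⟩ := hg.isMap.exists_image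
  exact (GoodStar.comp hS hF (hgen hg R₁ le_rfl rfl) hR'
    (base S R' _ isCentric_self (fd_aut le_rfl haA haD) hR'.cod_le (hR'.card_eq.symm))).congr he.symm

/-- A map in the class between fully normalized subgroups is good. -/
theorem good_of_fd (hS : IsPGroup p S) (hF : F.IsSaturated p) (hH : H0 F p ≤ D) {R R' : Subgroup Ω}
    {f : Ω → Ω} (hRn : F.IsFullyNormalized R) (hf : FD F p D R f) (hi : IsIso F R R' f)
    (hR'n : F.IsFullyNormalized R') : Good F p D R f :=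
  ((goodStar_of_fd hS hF hH _ R f rfl hf).2 R' R id id id hi
    ⟨gen_id inf_le_left, R, isIso_id hRn.1, hRn⟩ (isIso_id hRn.1)
    ⟨gen_id inf_le_left, R', isIso_id hR'n.1, hR'n⟩ (isIso_id hRn.1) fun _ _ => rfl).congr fun _ _ => rfl

end Finite

/-! ### The system -/

variable (F p) in
/-- The fusion system of the maps with class in `D`. -/
noncomputable def fdSystem (D : Subgroup (MulAut S)) : FusionSystem S :=
  mkSub F S (fun P f => FD F p D P f) (fun h he => h.congr he)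
    (fun h => ⟨h.isMap, h.isMap.dom_le, fun _ hx => h.isMap.apply_mem hx⟩)
    (fun hP hg => fd_of_gen (Gen.conj hP hg))
    (fun hf hg hm => hf.comp hg hm)
    (fun hf hi _ hl => hf.inv hi hl)

theorem isMap_fdSystem {P : Subgroup Ω} {f : Ω → Ω} : IsMap (fdSystem F p D) P f ↔ FD F p D P f :=
  isMap_mkSub

theorem fdSystem_sub : (fdSystem F p D).IsSubsystemOf F := fun _ =>
  hom_subset_of_isMap fun _ h => (isMap_fdSystem.mp h).isMap

variable [Finite S] [Fact p.Prime]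

theorem autGroup_fdSystem (hD : D ≤ F.autGroup S) (hH : H0 F p ≤ D) :
    (fdSystem F p D).autGroup S = D := by
  ext a
  rw [mem_autGroup le_rfl]
  refine ⟨fun h => mem_of_cls_centric hH isCentric_self (isMap_fdSystem.mp h.1)
    (cls_aut le_rfl (autGroup_mem_of_isMap (h.1.of_isSubsystemOf fdSystem_sub))), fun h => ?_⟩
  exact ⟨isMap_fdSystem.mpr (fd_aut le_rfl (hD h) h), autFun_image a⟩

theorem fdSystem_fullyNormalized (hS : IsPGroup p S) (hF : F.IsSaturated p) {P : Subgroup Ω}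
    (hP : (fdSystem F p D).IsFullyNormalized P) : F.IsFullyNormalized P := by
  refine ⟨hP.1, fun Q hQ => ?_⟩
  obtain ⟨f, hf⟩ := isConj_iff.mp hQ
  obtain ⟨b, hb, g, hg, he⟩ := cls_exists hS hF hf.1
  obtain ⟨Q', hQ'⟩ := hg.isMap.exists_image
  refine le_trans ?_ (hP.2 Q' (IsIso.isConj ⟨isMap_fdSystem.mpr (fd_of_gen hg), hQ'.2⟩))
  refine card_normalizerIn_le_of_aut ((mem_autGroup le_rfl).mp (inv_mem hb)) hf.cod_le ?_
  rw [← hf.2, ← hQ'.2, Set.image_image]
  exact Set.image_congr fun x hx => by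
    rw [he hx, Function.comp_apply, autFun_inv_apply b (hg.isMap.apply_mem hx)]

theorem fdSystem_isSaturated (hS : IsPGroup p S) (hF : F.IsSaturated p) (hD : D ≤ F.autGroup S)
    (hH : H0 F p ≤ D) : (fdSystem F p D).IsSaturated p := by
  rw [isSaturated_iff_receptive hS]
  constructor
  · refine ⟨le_rfl, ?_⟩
    obtain ⟨U, hU⟩ := (fullyAutomized_of_fullyNormalized hS hF fullyNormalized_self).2
    have hinn : autInducedBy S S ≤ D := autInducedBy_self_eq_inn (S := S) ▸ inn_le_h0.trans hH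
    rw [autGroup_fdSystem hD hH]
    let e : D →* F.autGroup S := Subgroup.inclusion hD
    refine ⟨U.comapOfInjective e (Subgroup.inclusion_injective hD) ?_, ?_⟩
    · intro x hx
      rw [hU, Subgroup.mem_subgroupOf] at hx
      exact ⟨⟨x, hinn hx⟩, rfl⟩
    · change (U : Subgroup (F.autGroup S)).comap e = _
      rw [hU]
      rfl
  · intro P hP
    have hPn := fdSystem_fullyNormalized hS hF hP
    refine isReceptive_of hP.1 fun Q φ hφ M hQM hM => ?_
    have hφF : IsIso F Q P φ := ⟨hφ.1.of_isSubsystemOf fdSystem_sub, hφ.2⟩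
    have hQS : Q ≤ S := hφ.dom_le
    obtain ⟨g, Q₀, hg, hgQ, hQ₀n⟩ := exists_tr hS hF hQS
    obtain ⟨gi, hgi, hgl, -⟩ := hgQ.exists_inv
    have hφ₀ : IsIso F Q₀ P (φ ∘ gi) := hgi.comp hφF
    obtain ⟨-, -, -, -, ψ₀, hψ₀, hψ₀e⟩ := good_of_fd hS hF hH hQ₀n
      (((fd_of_gen (hg.1.mono (le_normalizerIn hQS))).inv hgQ hgl).comp (isMap_fdSystem.mp hφ.1)
        fun y hy => hgi.mem hy) hφ₀ hPn
    have hMN : M ≤ normalizerIn S Q := fun m hm => ⟨hM.1 hm, (hM.2 m hm).1⟩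
    obtain ⟨M₀, hgM⟩ := (hg.1.isMap.mono hMN).exists_image
    obtain ⟨φh, -, hφh⟩ := id hφ₀.1
    have hM₀ : IsExtendable S Q₀ (φ ∘ gi) M₀ := by
      refine ⟨hgM.cod_le, fun y hy => ?_⟩
      obtain ⟨m, hm, rfl⟩ := hgM.exists_preimage hy
      refine ⟨(map_mem_normalizer hgM.1 hQM hgQ.2 hm (hMN hm).2).2, ?_⟩
      obtain ⟨hmN, h, hh, H⟩ := hM.2 m hm
      refine ⟨h, hh, fun z hz => ?_⟩
      obtain ⟨w, hw, rfl⟩ := hgQ.exists_preimage hz
      rw [← hgM.1.map_conj hm (hQM hw)]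
      simp only [Function.comp_apply]
      rw [hgl _ (conj_mem_of_mem_normalizer hmN hw), hgl w hw, H w hw]
    have hle : M₀ ⊔ centralizerIn S Q₀ ≤ FusionSystem.extender S Q₀ φh :=
      sup_le (le_extender_of_isExtendable hφh hM₀)
        (le_extender_of_isExtendable hφh (isExtendable_centralizerIn _))
    obtain ⟨ψ, hψ, hψe⟩ := receptive_extend (receptive_of_fullyNormalized hS hF hPn) hφ₀
      ⟨hle.trans (isExtendable_extender hφh).1, fun y hy => (isExtendable_extender hφh).2 y (hle hy)⟩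
    obtain ⟨ψ', hψ', he⟩ := transfer hS hF hH le_sup_left
      (isCentric_sup_centralizer (fullyCentralized_of_fullyNormalized hS hF hQ₀n))
      (sup_le le_sup_left (le_sup_right.trans le_sup_right) :
        Q₀ ⊔ centralizerIn S Q₀ ≤ Q₀ ⊔ (M₀ ⊔ centralizerIn S Q₀))
      (sup_le (le_normalizerIn hQ₀n.1) (hle.trans fun y hy => ⟨(mem_extender.mp hy).1, (mem_extender.mp hy).2.1⟩))
      hψ₀ (hφ₀.congr hψ₀e.symm) hPn hψ (hψe.trans hψ₀e.symm)
    refine ⟨ψ' ∘ g, isMap_fdSystem.mpr ((fd_of_gen (hg.1.mono hMN)).comp hψ' fun m hm =>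
      Subgroup.mem_sup_right (Subgroup.mem_sup_left (hgM.mem hm))), fun x hx => ?_⟩
    rw [Function.comp_apply, he (hgQ.mem hx), hψ₀e (hgQ.mem hx), Function.comp_apply, hgl x hx]

theorem fdSystem_primeToP (hS : IsPGroup p S) (hF : F.IsSaturated p) :
    (fdSystem F p D).HasPrimeToPIndexIn F p := by
  refine ⟨fdSystem_sub, fun P hP => ?_⟩
  rw [Subgroup.map_le_iff_le_comap, Subgroup.closure_le]
  rintro a ⟨k, hk⟩
  exact autGroup_mem_of_isMap (isMap_fdSystem.mpr (fd_of_gen (gen_of_pElement hS hF hP a.2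
    ⟨k, congrArg Subtype.val (hk ▸ pow_orderOf_eq_one a)⟩)))

/-- The system of the maps with class in `H0` is the least saturated subsystem of index prime
to `p`. -/
theorem fdSystem_least (hS : IsPGroup p S) (hF : F.IsSaturated p) (E : FusionSystem S)
    (hE : E.IsSaturated p) (hEi : E.HasPrimeToPIndexIn F p) :
    (fdSystem F p (H0 F p)).IsSubsystemOf E := by
  have haut : ∀ Q, F.IsCentric Q → ∀ a ∈ F.autGroup Q, (∃ k, a ^ p ^ k = 1) → a ∈ E.autGroup Q := by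
    intro Q hQ a ha hk
    obtain ⟨k, hk⟩ := hk
    obtain ⟨j, -, hj⟩ := (Nat.dvd_prime_pow (Fact.out : p.Prime)).mp
      (orderOf_dvd_of_pow_eq_one (show (⟨a, ha⟩ : F.autGroup Q) ^ p ^ k = 1 from Subtype.ext hk))
    exact hEi.2 Q hQ.1 ⟨_, Subgroup.subset_closure ⟨j, hj⟩, rfl⟩
  have hle : E ≤ F := hEi.1
  have hH : H0 F p ≤ E.autGroup S := by
    refine (Subgroup.closure_le _).mpr ?_
    rintro a ⟨ha, P, hP, hg⟩
    exact autGroup_mem_of_isMap (Fus93.isMap_of_centric hS hF hE hle _ (Nat.le_add_left _ _) hP hP.1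
      ((mem_autGroup le_rfl).mp ha).1 (hg.isMap_of haut))
  intro P
  refine hom_subset_of_isMap fun f hf => ?_
  obtain ⟨a, ha, -, g, hg, he⟩ := isMap_fdSystem.mp hf
  exact ((hg.isMap_of haut).comp ((mem_autGroup le_rfl).mp (hH ha)).1
    fun x hx => hg.isMap.apply_mem hx).congr he.symm

theorem fdSystem_residual (hS : IsPGroup p S) (hF : F.IsSaturated p) :
    F.IsPPrimeResidual p (fdSystem F p (H0 F p)) :=
  ⟨fdSystem_isSaturated hS hF h0_le le_rfl, fdSystem_primeToP hS hF, fdSystem_least hS hF⟩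

/-- For a normal subgroup of `Aut_F(S)` the system is normal. -/
theorem fdSystem_normal (hS : IsPGroup p S) (hF : F.IsSaturated p) (hD : D ≤ F.autGroup S)
    (hH : H0 F p ≤ D) (hnorm : ∀ a ∈ D, ∀ c ∈ F.autGroup S, c * a * c⁻¹ ∈ D) :
    (fdSystem F p D).IsNormalIn F p := by
  refine ⟨⟨fdSystem_isSaturated hS hF hD hH, hF, ?_⟩, fun α hα => ?_⟩
  · refine Fus93.isInvariantIn_of fdSystem_sub ⟨le_rfl, fun R _ φ hφ x => (F.le_of_mem hφ).2 x⟩ ?_ ?_
    · intro P f hf k hk P' hP'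
      obtain ⟨a, ha, hc⟩ := isMap_fdSystem.mp hf
      obtain ⟨c, hcA, hce⟩ := hk.exists_aut
      obtain ⟨ki, hki, hkl, -⟩ := hk.exists_inv
      have hkP : IsIso F P P' k := ⟨hk.1.mono hf.dom_le, hP'.symm⟩
      have hkc : Cls F p P k c := (cls_aut hf.dom_le hcA).congr (hce.mono hf.dom_le)
      refine ⟨k ∘ f ∘ ki, isMap_fdSystem.mpr ⟨c * (a * c⁻¹), by rw [← mul_assoc]; exact hnorm a ha c hcA,
        ((hkc.inv hkP fun x hx => hkl x (hf.dom_le hx)).comp hc fun y hy => ?_).comp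
          ((cls_aut le_rfl hcA).congr hce) fun y hy => ?_⟩, fun x hx => ?_⟩
      · obtain ⟨x, hx, rfl⟩ := hkP.exists_preimage hy
        rwa [hkl x (hf.dom_le hx)]
      · obtain ⟨x, hx, rfl⟩ := hkP.exists_preimage hy
        rw [Function.comp_apply, hkl x (hf.dom_le hx)]
        exact hc.isMap.apply_mem hx
      · rw [Function.comp_apply, Function.comp_apply, hkl x (hf.dom_le hx)]
    · intro P f hf _
      obtain ⟨α, g, hα, hg, he⟩ := factors_all hS hF hf
      exact ⟨α, g, hα, isMap_fdSystem.mpr (fd_of_gen hg), he⟩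
  · have hαF : IsIso F S S (autFun α) := (mem_autGroup le_rfl).mp (autGroup_mono (fdSystem_sub S) hα)
    have hC : S ⊔ centralizerIn S S = S := sup_eq_left.mpr inf_le_left
    have hiso : IsIso F (S ⊔ centralizerIn S S) (S ⊔ centralizerIn S S) (autFun α) := by
      rw [hC]; exact hαF
    obtain ⟨β, hβ, hβe⟩ := hiso.exists_aut
    refine ⟨β, hβ, fun x => ?_, fun c hc => ?_⟩
    · rw [← autFun_coe β]
      exact (hβe (le_sup_left (b := centralizerIn S S) x.2)).trans (autFun_coe α x)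
    · rw [← autFun_coe β, hβe c.2]
      have h1 : autFun α (c : Ω) ∈ centralizerIn S S :=
        map_mem_centralizer hαF.1 le_rfl hαF.2 (hc.1) hc.2
      exact (centralizerIn S S).mul_mem ((centralizerIn S S).inv_mem hc) h1

end Cfsg.Agent.PrimeIndex
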