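import Cfsg.Agent.Lib.Fusion.PrimeToP
import Cfsg.Agent.Fus93.SmallControl
import Cfsg.Agent.Fus93.CentricExt

/-!
# Subsystems of index prime to `p`: classes of maps modulo `H0`

Every map of a saturated system is an automorphism of `S` after a map generated by the `p`-power
order automorphisms of the centric subgroups; the automorphism is unique modulo `H0` when the
source is centric.
-/

set_option autoImplicit false

namespace Cfsg.Agent.PrimeIndex

open Cfsg Cfsg.Agent.Fusion Cfsg.Agent.Fusion.PrimeToP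
open Cfsg.FusionSystem (normalizerIn centralizerIn)

variable {Ω : Type*} [Group Ω] {S : Subgroup Ω} {F : FusionSystem S} {p : ℕ}

theorem autFun_inv_apply {P : Subgroup Ω} (a : MulAut P) {x : Ω} (hx : x ∈ P) :
    autFun a⁻¹ (autFun a x) = x := by
  rw [autFun_of_mem a hx, autFun_coe]
  exact congrArg Subtype.val (a.symm_apply_apply ⟨x, hx⟩)

theorem autFun_apply_inv {P : Subgroup Ω} (a : MulAut P) {x : Ω} (hx : x ∈ P) :
    autFun a (autFun a⁻¹ x) = x := by
  rw [autFun_of_mem a⁻¹ hx, autFun_coe]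
  exact congrArg Subtype.val (a.apply_symm_apply ⟨x, hx⟩)

theorem autFun_mem {P : Subgroup Ω} (a : MulAut P) {x : Ω} (hx : x ∈ P) : autFun a x ∈ P := by
  rw [autFun_of_mem a hx]; exact Subtype.mem _

/-- Generators of the automorphisms of `S` whose restriction to some centric subgroup is a
generated map. -/
def H0 (F : FusionSystem S) (p : ℕ) : Subgroup (MulAut S) :=
  Subgroup.closure {a | a ∈ F.autGroup S ∧ ∃ P, F.IsCentric P ∧ Gen F p P (autFun a)}

theorem h0_le : H0 F p ≤ F.autGroup S := (Subgroup.closure_le _).mpr fun _ ha => ha.1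

theorem mem_h0 {a : MulAut S} (ha : a ∈ F.autGroup S) {P : Subgroup Ω} (hP : F.IsCentric P)
    (hg : Gen F p P (autFun a)) : a ∈ H0 F p :=
  Subgroup.subset_closure ⟨ha, P, hP, hg⟩

theorem h0_conj {a c : MulAut S} (ha : a ∈ H0 F p) (hc : c ∈ F.autGroup S) :
    c * a * c⁻¹ ∈ H0 F p := by
  induction ha using Subgroup.closure_induction with
  | mem a ha =>
    obtain ⟨haA, P, hP, hg⟩ := ha
    have hci := (mem_autGroup le_rfl).mp hc
    obtain ⟨P', hP'⟩ := (hci.1.mono hP.1).exists_image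
    refine mem_h0 (mul_mem (mul_mem hc haA) (inv_mem hc)) (PrimeToP.isCentric_of_isConj hP hP'.isConj)
      ((hg.transport hci (fun x hx => autFun_inv_apply c hx) P' hP'.2.symm).congr fun x hx => ?_)
    have hxS : x ∈ S := hP'.cod_le hx
    rw [autFun_mul _ _ hxS]
    simp only [Function.comp_apply]
    rw [autFun_mul _ _ (autFun_mem _ hxS)]
    rfl
  | one => simp
  | mul x y _ _ hx hy =>
    rw [show c * (x * y) * c⁻¹ = c * x * c⁻¹ * (c * y * c⁻¹) by group]
    exact mul_mem hx hy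
  | inv x _ hx =>
    rw [show c * x⁻¹ * c⁻¹ = (c * x * c⁻¹)⁻¹ by group]
    exact inv_mem hx

theorem inn_le_h0 [Finite S] : Cfsg.Inn S ≤ H0 F p := by
  intro a ha
  obtain ⟨s, hs, h⟩ := mem_inn.mp ha
  exact mem_h0 (inn_le_autGroup le_rfl ha) isCentric_self ((Gen.conj le_rfl hs).congr fun x hx =>
    ((autFun_of_mem a hx).trans (h ⟨x, hx⟩)).symm)

/-- `f` agrees on `P` with the automorphism `b` of `S` after a generated map. -/
def Cls (F : FusionSystem S) (p : ℕ) (P : Subgroup Ω) (f : Ω → Ω) (b : MulAut S) : Prop :=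
  b ∈ F.autGroup S ∧ ∃ g, Gen F p P g ∧ Set.EqOn f (autFun b ∘ g) P

theorem cls_of_gen {P : Subgroup Ω} {f : Ω → Ω} (h : Gen F p P f) : Cls F p P f 1 :=
  ⟨one_mem _, f, h, fun _ hx => (autFun_one (h.isMap.apply_mem hx)).symm⟩

theorem cls_aut {P : Subgroup Ω} (hP : P ≤ S) {a : MulAut S} (ha : a ∈ F.autGroup S) :
    Cls F p P (autFun a) a :=
  ⟨ha, id, gen_id hP, fun _ _ => rfl⟩

theorem Cls.isMap {P : Subgroup Ω} {f : Ω → Ω} {b : MulAut S} (h : Cls F p P f b) : IsMap F P f := by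
  obtain ⟨hb, g, hg, he⟩ := h
  exact (hg.isMap.comp ((mem_autGroup le_rfl).mp hb).1 fun _ hx => hg.isMap.apply_mem hx).congr
    fun x hx => (he hx).symm

theorem Cls.congr {P : Subgroup Ω} {f f' : Ω → Ω} {b : MulAut S} (h : Cls F p P f b)
    (he : Set.EqOn f f' P) : Cls F p P f' b :=
  let ⟨hb, g, hg, hf⟩ := h
  ⟨hb, g, hg, he.symm.trans hf⟩

theorem Cls.mono {P P' : Subgroup Ω} {f : Ω → Ω} {b : MulAut S} (h : Cls F p P f b) (hle : P' ≤ P) :
    Cls F p P' f b :=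
  let ⟨hb, g, hg, hf⟩ := h
  ⟨hb, g, hg.mono hle, hf.mono hle⟩

theorem Cls.comp {P Q : Subgroup Ω} {f f' : Ω → Ω} {b c : MulAut S} (h : Cls F p P f b)
    (h' : Cls F p Q f' c) (hm : ∀ x ∈ P, f x ∈ Q) : Cls F p P (f' ∘ f) (c * b) := by
  obtain ⟨hb, g, hg, hf⟩ := h
  obtain ⟨hc, g', hg', hf'⟩ := h'
  have hi := (mem_autGroup le_rfl).mp (inv_mem hb)
  obtain ⟨R, hR⟩ := (hi.1.mono hg'.isMap.dom_le).exists_image
  have h1 : Gen F p R (autFun b⁻¹ ∘ g' ∘ autFun b) :=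
    hg'.transport hi (fun x hx => autFun_apply_inv b hx) R hR.2.symm
  refine ⟨mul_mem hc hb, (autFun b⁻¹ ∘ g' ∘ autFun b) ∘ g, hg.comp h1 fun x hx => ?_, fun x hx => ?_⟩
  · have hgx := hg.isMap.apply_mem hx
    have : autFun b⁻¹ (f x) = g x := by rw [hf hx, Function.comp_apply, autFun_inv_apply b hgx]
    exact this ▸ hR.mem (hm x hx)
  · have hgx := hg.isMap.apply_mem hx
    have hfx : f x = autFun b (g x) := hf hx
    have hg'x : g' (f x) ∈ S := hg'.isMap.apply_mem (hm x hx)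
    simp only [Function.comp_apply]
    rw [← hfx, autFun_mul c b (autFun_mem _ hg'x), Function.comp_apply, autFun_apply_inv b hg'x]
    exact hf' (hm x hx)

theorem Cls.inv {P Q : Subgroup Ω} {f fi : Ω → Ω} {b : MulAut S} (h : Cls F p P f b)
    (hf : IsIso F P Q f) (hl : ∀ x ∈ P, fi (f x) = x) : Cls F p Q fi b⁻¹ := by
  obtain ⟨hb, g, hg, he⟩ := h
  have hbi := (mem_autGroup le_rfl).mp hb
  obtain ⟨R, hR⟩ := hg.isMap.exists_image
  obtain ⟨gi, hgi, hgl, -⟩ := hR.exists_inv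
  have hgen : Gen F p R gi := Gen.inv hg hR.2 hgl
  have hQ : (Q : Set Ω) = autFun b '' (R : Set Ω) := by
    rw [← hf.2, ← hR.2, Set.image_image]
    exact Set.image_congr he
  refine ⟨inv_mem hb, autFun b ∘ gi ∘ autFun b⁻¹,
    hgen.transport hbi (fun x hx => autFun_inv_apply b hx) Q hQ, fun y hy => ?_⟩
  obtain ⟨x, hx, rfl⟩ := hf.exists_preimage hy
  simp only [Function.comp_apply]
  rw [hl x hx, he hx, Function.comp_apply, autFun_inv_apply b (hg.isMap.apply_mem hx), hgl x hx,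
    autFun_inv_apply b (hg.isMap.dom_le hx)]

theorem cls_exists [Finite S] [Fact p.Prime] (hS : IsPGroup p S) (hF : F.IsSaturated p)
    {P : Subgroup Ω} {f : Ω → Ω} (hf : IsMap F P f) : ∃ b, Cls F p P f b := by
  obtain ⟨α, g, hα, hg, he⟩ := factors_all hS hF hf
  obtain ⟨b, hb, hbe⟩ := hα.exists_aut
  exact ⟨b, hb, g, hg, fun x hx => (he hx).trans (hbe (hg.isMap.apply_mem hx)).symm⟩

/-- On a centric subgroup the class is unique modulo `H0`. -/
theorem Cls.unique {P : Subgroup Ω} (hP : F.IsCentric P) {f : Ω → Ω} {b c : MulAut S}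
    (h : Cls F p P f b) (h' : Cls F p P f c) : c⁻¹ * b ∈ H0 F p := by
  obtain ⟨hb, g, hg, he⟩ := h
  obtain ⟨hc, g', hg', he'⟩ := h'
  obtain ⟨R, hR⟩ := hg.isMap.exists_image
  obtain ⟨gi, hgi, hgl, -⟩ := hR.exists_inv
  refine mem_h0 (mul_mem (inv_mem hc) hb) (PrimeToP.isCentric_of_isConj hP hR.isConj)
    (((Gen.inv hg hR.2 hgl).comp hg' fun y hy => hgi.mem hy).congr fun y hy => ?_)
  obtain ⟨x, hx, rfl⟩ := hR.exists_preimage hy
  have hgx := hg.isMap.apply_mem hx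
  have h1 := (he hx).symm.trans (he' hx)
  simp only [Function.comp_apply] at h1 ⊢
  rw [hgl x hx, autFun_mul _ _ hgx, Function.comp_apply, h1, autFun_inv_apply c (hg'.isMap.apply_mem hx)]

/-- The maps whose class lies in `D`. -/
def FD (F : FusionSystem S) (p : ℕ) (D : Subgroup (MulAut S)) (P : Subgroup Ω) (f : Ω → Ω) : Prop :=
  ∃ b ∈ D, Cls F p P f b

variable {D : Subgroup (MulAut S)}

theorem FD.isMap {P : Subgroup Ω} {f : Ω → Ω} (h : FD F p D P f) : IsMap F P f :=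
  let ⟨_, _, hc⟩ := h; hc.isMap

theorem fd_of_gen {P : Subgroup Ω} {f : Ω → Ω} (h : Gen F p P f) : FD F p D P f :=
  ⟨1, one_mem _, cls_of_gen h⟩

theorem fd_aut {P : Subgroup Ω} (hP : P ≤ S) {a : MulAut S} (ha : a ∈ F.autGroup S) (haD : a ∈ D) :
    FD F p D P (autFun a) :=
  ⟨a, haD, cls_aut hP ha⟩

theorem FD.congr {P : Subgroup Ω} {f f' : Ω → Ω} (h : FD F p D P f) (he : Set.EqOn f f' P) :
    FD F p D P f' :=
  let ⟨b, hb, hc⟩ := h; ⟨b, hb, hc.congr he⟩

theorem FD.mono {P P' : Subgroup Ω} {f : Ω → Ω} (h : FD F p D P f) (hle : P' ≤ P) :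
    FD F p D P' f :=
  let ⟨b, hb, hc⟩ := h; ⟨b, hb, hc.mono hle⟩

theorem FD.comp {P Q : Subgroup Ω} {f f' : Ω → Ω} (h : FD F p D P f) (h' : FD F p D Q f')
    (hm : ∀ x ∈ P, f x ∈ Q) : FD F p D P (f' ∘ f) :=
  let ⟨b, hb, hc⟩ := h; let ⟨c, hc', hcc⟩ := h'
  ⟨c * b, mul_mem hc' hb, hc.comp hcc hm⟩

theorem FD.inv {P Q : Subgroup Ω} {f fi : Ω → Ω} (h : FD F p D P f) (hf : IsIso F P Q f)
    (hl : ∀ x ∈ P, fi (f x) = x) : FD F p D Q fi :=
  let ⟨b, hb, hc⟩ := h; ⟨b⁻¹, inv_mem hb, hc.inv hf hl⟩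

theorem mem_of_cls_centric (hH : H0 F p ≤ D) {P : Subgroup Ω} (hP : F.IsCentric P) {f : Ω → Ω}
    {b : MulAut S} (h : FD F p D P f) (h' : Cls F p P f b) : b ∈ D := by
  obtain ⟨c, hc, hcc⟩ := h
  have := mul_mem hc (hH (h'.unique hP hcc))
  rwa [mul_inv_cancel_left] at this

/-- A map whose restriction to a centric subgroup is in the class is in the class. -/
theorem fd_of_centric [Finite S] [Fact p.Prime] (hS : IsPGroup p S) (hF : F.IsSaturated p)
    (hH : H0 F p ≤ D) {U R : Subgroup Ω} (hU : F.IsCentric U) (hUR : U ≤ R) {f : Ω → Ω}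
    (hf : IsMap F R f) (h : FD F p D U f) : FD F p D R f := by
  obtain ⟨b, hb⟩ := cls_exists hS hF hf
  exact ⟨b, mem_of_cls_centric hH hU h (hb.mono hUR), hb⟩

/-! ### Fully normalized subgroups -/

theorem card_normalizerIn_le_of_aut [Finite S] {α : Ω → Ω} (hα : IsIso F S S α) {P P' : Subgroup Ω}
    (hP : P ≤ S) (h : α '' (P : Set Ω) = (P' : Set Ω)) :
    Nat.card (normalizerIn S P) ≤ Nat.card (normalizerIn S P') :=
  card_le_of_injOn inf_le_left (hα.1.injOn.mono fun x hx => hx.1) fun _ hx =>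
    map_mem_normalizer hα.1 hP h hx.1 hx.2

theorem isFullyNormalized_of_aut [Finite S] {α : Ω → Ω} (hα : IsIso F S S α) {P P' : Subgroup Ω}
    (hP : F.IsFullyNormalized P) (h : α '' (P : Set Ω) = (P' : Set Ω)) : F.IsFullyNormalized P' := by
  have hiso : IsIso F P P' α := ⟨hα.1.mono hP.1, h⟩
  exact ⟨hiso.cod_le, fun Q hQ => (hP.2 Q (isConj_trans hiso.isConj hQ)).trans
    (card_normalizerIn_le_of_aut hα hP.1 h)⟩

/-- A generated map of the normalizer onto a fully normalized conjugate. -/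
theorem exists_gen_normalizer [Finite S] [Fact p.Prime] (hS : IsPGroup p S) (hF : F.IsSaturated p)
    {R : Subgroup Ω} (hR : R ≤ S) :
    ∃ g R₀, Gen F p (normalizerIn S R) g ∧ IsIso F R R₀ g ∧ F.IsFullyNormalized R₀ := by
  obtain ⟨R', hR', hn⟩ := exists_fullyNormalized (F := F) hR
  obtain ⟨u, hu, huR, -⟩ := exists_normalizer_map hS (fullyAutomized_of_fullyNormalized hS hF hn)
    (receptive_of_fullyNormalized hS hF hn) hR'
  obtain ⟨α, g, hα, hg, he⟩ := factors_all hS hF hu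
  obtain ⟨αi, hαi, hαl, -⟩ := hα.exists_inv
  obtain ⟨R₀, hR₀⟩ := (hg.isMap.mono (le_normalizerIn hR)).exists_image
  refine ⟨g, R₀, hg, hR₀, isFullyNormalized_of_aut hαi hn ?_⟩
  rw [← huR.2, ← hR₀.2, Set.image_image]
  exact Set.image_congr fun x hx => by
    rw [he (le_normalizerIn hR hx), Function.comp_apply, hαl _ (hg.isMap.apply_mem (le_normalizerIn hR hx))]

theorem isCentric_sup_centralizer [Finite S] {P : Subgroup Ω} (hP : F.IsFullyCentralized P) :
    F.IsCentric (P ⊔ centralizerIn S P) := by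
  refine ⟨sup_le hP.1 inf_le_left, fun L hL y hy => ?_⟩
  obtain ⟨f, hf⟩ := isConj_iff.mp hL
  obtain ⟨P', hP'L, hfP⟩ := hf.restrict le_sup_left
  obtain ⟨c, hc, rfl⟩ := surjOn_of_card_le (M := centralizerIn S P) (N := centralizerIn S P')
    inf_le_left (hf.1.injOn.mono fun x hx => le_sup_right (a := P) hx)
    (fun x hx => map_mem_centralizer hf.1 le_sup_left hfP.2 (le_sup_right (a := P) hx) hx.2)
    (hP.2 P' hfP.isConj) y ⟨hy.1, Subgroup.centralizer_le hP'L hy.2⟩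
  exact hf.mem (le_sup_right (a := P) hc)

/-! ### The splitting and transfer lemmas -/

variable [Finite S] [Fact p.Prime]

theorem gen_of_gen_innSystem (hS : IsPGroup p S) (hF : F.IsSaturated p) {X : Subgroup Ω} (hX : X ≤ S)
    {P : Subgroup Ω} {f : Ω → Ω} (hg : Gen (Fus93.innSystem F X hX) p P f) : Gen F p P f := by
  induction hg with
  | conj hP hs => exact Gen.conj (hP.trans inf_le_left) hs.1
  | @aut P Q a hc ha hk hle =>
    refine (gen_of_pElement hS hF (hc.1.trans inf_le_left) ?_ hk).mono hle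
    exact autGroup_mem_of_isMap (Fus93.isMap_innSystem.mp ((mem_autGroup hc.1).mp ha).1).1
  | comp _ _ hm hf hg => exact hf.comp hg hm
  | inv _ him hl hf => exact Gen.inv hf him hl
  | congr _ he hf => exact hf.congr he

/-- A map of a subgroup of `N_S(P)` fixing `P` is an automorphism of `N_S(P)` fixing `P` after a
generated map. -/
theorem split (hS : IsPGroup p S) (hF : F.IsSaturated p) {P R : Subgroup Ω}
    (hPn : F.IsFullyNormalized P) (hPR : P ≤ R) (hR : R ≤ normalizerIn S P) {κ : Ω → Ω}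
    (hκ : IsMap F R κ) (hκN : ∀ x ∈ R, κ x ∈ normalizerIn S P) (hfix : ∀ x ∈ P, κ x = x) :
    ∃ α g, IsIso F (normalizerIn S P) (normalizerIn S P) α ∧ (∀ x ∈ P, α x = x) ∧ Gen F p R g ∧
      (∀ x ∈ R, g x ∈ normalizerIn S P) ∧ Set.EqOn κ (α ∘ g) R := by
  set N := normalizerIn S P with hN
  set G := Fus93.innSystem F P hPn.1
  have hG : IsMap G R κ := Fus93.isMap_innSystem.mpr ⟨hκ, hR, hκN, κ,
    hκ.mono (sup_le le_rfl hPR), fun _ _ => rfl, 1, one_mem _, fun x hx => by simp [hfix x hx]⟩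
  have hPN : P ≤ N := le_normalizerIn hPn.1
  haveI : Finite N := finite_of_le inf_le_left
  obtain ⟨α₀, g₀, hα₀, hg₀, he⟩ := factors_all (hS.to_le (normalizerIn_le S P))
    (Fus93.innSystem_isSaturated hS hF hPn) hG
  obtain ⟨hα₀F, -, -, f', -, hfe, s, hs, hsx⟩ := Fus93.isMap_innSystem.mp hα₀.1
  have hα₀P : ∀ x ∈ P, α₀ x = s * x * s⁻¹ := fun x hx => (hfe (hPN hx)).symm.trans (hsx x hx)
  have hc : IsIso F N N (fun x => s⁻¹ * x * s⁻¹⁻¹) :=
    ⟨isMap_conj inf_le_left (inv_mem hs.1), image_conj_eq_self (N.le_normalizer (inv_mem hs))⟩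
  refine ⟨α₀ ∘ (fun x => s⁻¹ * x * s⁻¹⁻¹), (fun x => s * x * s⁻¹) ∘ g₀,
    hc.comp ⟨hα₀F, hα₀.2⟩, fun x hx => ?_,
    (gen_of_gen_innSystem hS hF hPn.1 hg₀).comp (Gen.conj inf_le_left hs.1)
      (fun x hx => hg₀.isMap.apply_mem hx), fun x hx => ?_, fun x hx => ?_⟩
  · have hx' : s⁻¹ * x * s⁻¹⁻¹ ∈ P := conj_mem_of_mem_normalizer (inv_mem hs.2) hx
    rw [Function.comp_apply, hα₀P _ hx']
    group
  · exact mul_mem (mul_mem hs (hg₀.isMap.apply_mem hx)) (inv_mem hs)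
  · rw [he hx]
    simp only [Function.comp_apply]
    congr 1
    group

/-- A map of `M` with fully normalized image of `P` extends, on `P`, to every subgroup containing
`M` to which it extends in the system, within its class. -/
theorem transfer (hS : IsPGroup p S) (hF : F.IsSaturated p) (hH : H0 F p ≤ D)
    {P P₁ M N : Subgroup Ω} {x ψ : Ω → Ω} (hPM : P ≤ M) (hMc : F.IsCentric M) (hMN : M ≤ N)
    (hN : N ≤ normalizerIn S P) (hx : FD F p D M x) (hxP : IsIso F P P₁ x)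
    (hP₁ : F.IsFullyNormalized P₁) (hψ : IsMap F N ψ) (hψP : Set.EqOn ψ x P) :
    ∃ ψ', FD F p D N ψ' ∧ Set.EqOn ψ' x P := by
  have hψP' : ψ '' (P : Set Ω) = (P₁ : Set Ω) := (Set.image_congr hψP).trans hxP.2
  have hxN : ∀ y ∈ M, x y ∈ normalizerIn S P₁ := fun y hy =>
    map_mem_normalizer hx.isMap hPM hxP.2 hy (hN (hMN hy)).2
  have hψN : ∀ y ∈ N, ψ y ∈ normalizerIn S P₁ := fun y hy =>
    map_mem_normalizer hψ (hPM.trans hMN) hψP' hy (hN hy).2
  obtain ⟨M', hM'⟩ := (hψ.mono hMN).exists_image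
  obtain ⟨ψi, hψi, hψl, hψr⟩ := hM'.exists_inv
  have hP₁M' : P₁ ≤ M' := fun y hy => by
    rw [← SetLike.mem_coe, ← hψP'] at hy
    obtain ⟨z, hz, rfl⟩ := hy
    exact hM'.mem (hPM hz)
  have hM'N : M' ≤ normalizerIn S P₁ := fun y hy => by
    obtain ⟨z, hz, rfl⟩ := hM'.exists_preimage hy
    exact hψN z (hMN hz)
  obtain ⟨α, g, hα, hαP, hg, hgN, he⟩ := split hS hF hP₁ hP₁M' hM'N
    (hψi.1.comp hx.isMap fun y hy => hψi.mem hy) (fun y hy => hxN _ (hψi.mem hy)) fun y hy => by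
      rw [← SetLike.mem_coe, ← hψP'] at hy
      obtain ⟨z, hz, rfl⟩ := hy
      rw [Function.comp_apply, hψl z (hPM hz), hψP hz]
  obtain ⟨b, hb⟩ := cls_exists hS hF hψ
  obtain ⟨c, hc⟩ := cls_exists hS hF hα.1
  have h1 : Cls F p M (α ∘ g ∘ ψ) (c * (1 * b)) :=
    ((hb.mono hMN).comp (cls_of_gen hg) fun y hy => hM'.mem hy).comp hc fun y hy => hgN _ (hM'.mem hy)
  have h2 : Cls F p M x (c * b) := by
    rw [one_mul] at h1
    refine h1.congr fun y hy => ?_
    have := he (hM'.mem hy)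
    simp only [Function.comp_apply] at this ⊢
    rw [← this, hψl y hy]
  refine ⟨α ∘ ψ, ⟨c * b, mem_of_cls_centric hH hMc hx h2, hb.comp hc hψN⟩, fun y hy => ?_⟩
  rw [Function.comp_apply, hψP hy]
  exact hαP _ (hxP.mem hy)

end Cfsg.Agent.PrimeIndex
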