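import Cfsg.Agent.PrimeIndex.Residual

/-!
# The `p'`-residual of a weakly normal subsystem is normal

Its automorphisms of `T` extend to `T C_S(T)` acting trivially modulo `T`: the generated maps do so on
every centric subgroup, and an automorphism of `P C_S(T)` fixing `P` has, up to a `p`-power, the action
modulo `T` of an automorphism of `T C_S(T)` fixing `T`.
-/

set_option autoImplicit false

namespace Cfsg.Agent.PrimeIndex

open Cfsg Cfsg.Agent.Fusion Cfsg.Agent.Fusion.PrimeToP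
open Cfsg.FusionSystem (normalizerIn centralizerIn)
open scoped Pointwise

variable {Ω : Type*} [Group Ω] {S : Subgroup Ω} {F : FusionSystem S} {p : ℕ}
  {T : Subgroup Ω} {E : FusionSystem T}

/-- The Frattini argument for the intersection with a Sylow subgroup. -/
theorem normalizer_inf_sylow_sup {A : Type*} [Group A] [Finite A] [Fact p.Prime] (U : Sylow p A)
    (N : Subgroup A) [N.Normal] :
    Subgroup.normalizer (((U : Subgroup A) ⊓ N : Subgroup A) : Set A) ⊔ N = ⊤ := by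
  obtain ⟨S₁, hS₁⟩ := (U.isPGroup'.comap_subtype (K := N)).exists_le_sylow
  obtain ⟨Q, hQ⟩ := (S₁.isPGroup'.map N.subtype).exists_le_sylow
  have h2 : (Q : Subgroup A) ⊓ N = (S₁ : Subgroup N).map N.subtype := by
    refine le_antisymm ?_ (le_inf hQ (Subgroup.map_subtype_le _))
    have h3 : (Q : Subgroup A).subgroupOf N = (S₁ : Subgroup N) :=
      S₁.is_maximal' Q.isPGroup'.comap_subtype (fun x hx => hQ ⟨x, hx, rfl⟩)
    rw [← h3, Subgroup.subgroupOf_map_subtype]
  obtain ⟨g, hg⟩ := MulAction.exists_smul_eq A U Q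
  have hle : (U : Subgroup A) ⊓ N ≤ (S₁ : Subgroup N).map N.subtype := fun x hx =>
    ⟨⟨x, hx.2⟩, hS₁ (show (⟨x, hx.2⟩ : N) ∈ (U : Subgroup A).comap N.subtype from hx.1), rfl⟩
  have hcard : Nat.card ↥((Q : Subgroup A) ⊓ N) = Nat.card ↥((U : Subgroup A) ⊓ N) := by
    have hmap : ((U : Subgroup A) ⊓ N).map (MulAut.conj g).toMonoidHom = (Q : Subgroup A) ⊓ N := by
      rw [Subgroup.map_inf _ _ _ (MulAut.conj g).injective, ← hg, Sylow.coe_subgroup_smul,
        Subgroup.pointwise_smul_def]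
      congr 1
      ext x
      simp only [Subgroup.mem_map, MulEquiv.coe_toMonoidHom, MulAut.conj_apply]
      refine ⟨fun ⟨y, hy, h⟩ => h ▸ Subgroup.Normal.conj_mem inferInstance y hy g, fun hx => ?_⟩
      refine ⟨g⁻¹ * x * g, ?_, by group⟩
      simpa using Subgroup.Normal.conj_mem (inferInstance : N.Normal) x hx g⁻¹
    rw [← hmap]
    exact Nat.card_congr (Subgroup.equivMapOfInjective _ _ (MulAut.conj g).injective).toEquiv.symm
  have heq : (U : Subgroup A) ⊓ N = (S₁ : Subgroup N).map N.subtype :=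
    Subgroup.eq_of_le_of_card_ge hle (by rw [← h2, hcard])
  rw [heq]
  exact Sylow.normalizer_sup_eq_top S₁

/-- Equality modulo `T`. -/
def ModT (T X : Subgroup Ω) (f g : Ω → Ω) : Prop := ∀ x ∈ X, (f x)⁻¹ * g x ∈ T

theorem modT_trans {a b c : Ω} (h1 : a⁻¹ * b ∈ T) (h2 : b⁻¹ * c ∈ T) : a⁻¹ * c ∈ T := by
  have := T.mul_mem h1 h2
  simpa [mul_assoc] using this

theorem modT_symm {a b : Ω} (h : a⁻¹ * b ∈ T) : b⁻¹ * a ∈ T := by
  simpa using T.inv_mem h

theorem map_modT (hT : F.StronglyClosed T) {X : Subgroup Ω} {f : Ω → Ω} (hf : IsMap F X f) {x y : Ω}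
    (hx : x ∈ X) (hy : y ∈ X) (h : x⁻¹ * y ∈ T) : (f x)⁻¹ * f y ∈ T := by
  rw [← hf.map_inv hx, ← hf.map_mul (inv_mem hx) hy]
  exact (stronglyClosed_iff.mp hT).2 X f hf _ (mul_mem (inv_mem hx) hy) h

/-- Congruence of two maps extends to the subgroup generated. -/
theorem modT_sup (hT : F.StronglyClosed T) (hN : S ≤ Subgroup.normalizer (T : Set Ω)) {A B X : Subgroup Ω}
    {f g : Ω → Ω} (hf : IsMap F X f) (hg : IsMap F X g) (hA : A ≤ X) (hB : B ≤ X) (h1 : ModT T A f g)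
    (h2 : ModT T B f g) : ModT T (A ⊔ B) f g := by
  let K : Subgroup Ω :=
    { carrier := {x | x ∈ X ∧ (f x)⁻¹ * g x ∈ T}
      one_mem' := ⟨X.one_mem, by rw [hf.map_one, hg.map_one]; simp⟩
      mul_mem' := fun {x y} hx hy => ⟨X.mul_mem hx.1 hy.1, by
        have h := conj_mem_of_mem_normalizer (inv_mem (hN (hf.apply_mem hy.1))) hx.2
        rw [hf.map_mul hx.1 hy.1, hg.map_mul hx.1 hy.1]
        have := T.mul_mem h hy.2
        simpa [mul_assoc] using this⟩
      inv_mem' := fun {x} hx => ⟨X.inv_mem hx.1, by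
        have h := conj_mem_of_mem_normalizer (hN (hf.apply_mem hx.1)) (T.inv_mem hx.2)
        rw [hf.map_inv hx.1, hg.map_inv hx.1]
        simpa [mul_assoc] using h⟩ }
  have hle : A ⊔ B ≤ K := sup_le (fun x hx => ⟨hA hx, h1 x hx⟩) fun x hx => ⟨hB hx, h2 x hx⟩
  exact fun x hx => (hle hx).2

theorem iterate_isMap {X : Subgroup Ω} {f : Ω → Ω} (hf : IsIso F X X f) (n : ℕ) :
    IsIso F X X (f^[n]) := by
  induction n with
  | zero => exact isIso_id hf.dom_le
  | succ n ih => rw [Function.iterate_succ']; exact ih.comp hf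

theorem modT_iterate (hT : F.StronglyClosed T) {X : Subgroup Ω} {f g : Ω → Ω}
    (hf : IsIso F X X f) (hg : IsIso F X X g) (h : ModT T X f g) (n : ℕ) : ModT T X (f^[n]) (g^[n]) := by
  induction n with
  | zero => intro x _; simp
  | succ n ih =>
    intro x hx
    rw [Function.iterate_succ_apply', Function.iterate_succ_apply']
    exact modT_trans (h _ ((iterate_isMap hf n).mem hx))
      (map_modT hT hg.1 ((iterate_isMap hf n).mem hx) ((iterate_isMap hg n).mem hx) (ih x hx))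

/-- An iterate of a map of `X` that is conjugation by an element of `p`-power order on `P` fixes `P`. -/
theorem exists_iterate_fix [Fact p.Prime] {P : Subgroup Ω} {f : Ω → Ω} {g : Ω}
    (hg : ∀ x ∈ P, f x = g * x * g⁻¹) (hgN : g ∈ Subgroup.normalizer (P : Set Ω)) {k : ℕ}
    (hk : g ^ p ^ k = 1) : ∀ x ∈ P, f^[p ^ k] x = x := by
  have h : ∀ n : ℕ, ∀ x ∈ P, f^[n] x = g ^ n * x * (g ^ n)⁻¹ := by
    intro n
    induction n with
    | zero => intro x _; simp
    | succ n ih =>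
      intro x hx
      rw [Function.iterate_succ_apply', ih x hx,
        hg _ (conj_mem_of_mem_normalizer (pow_mem hgN n) hx), pow_succ']
      group
  intro x hx
  rw [h _ x hx, hk]
  simp

variable [Finite S] [Fact p.Prime]

/-- An automorphism of `P C_S(T)` fixing a centric `P` agrees modulo `T`, after a `p`-power, with one
of `T C_S(T)` fixing `T`. -/
theorem exists_fixT (hS : IsPGroup p S) (hE : E.IsWeaklyNormalIn F p) :
    ∀ (n : ℕ) (P : Subgroup Ω), Nat.card T - Nat.card P = n → E.IsCentric P → ∀ δ,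
      IsIso F (P ⊔ centralizerIn S T) (P ⊔ centralizerIn S T) δ → (∀ x ∈ P, δ x = x) →
      ∃ j β, IsIso F (T ⊔ centralizerIn S T) (T ⊔ centralizerIn S T) β ∧ (∀ x ∈ T, β x = x) ∧
        ∀ c ∈ centralizerIn S T, (δ^[p ^ j] c)⁻¹ * β c ∈ T := by
  obtain ⟨hEs, hF, hinv⟩ := id hE
  have hT := hinv.2.1
  have hTS := hT.1
  have hSN : S ≤ Subgroup.normalizer (T : Set Ω) := stronglyClosed_le_normalizer hT
  have hclosed : ∀ {X : Subgroup Ω} {f : Ω → Ω}, IsMap F X f → ∀ x ∈ X, x ∈ T → f x ∈ T :=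
    fun hf x hx hxT => (stronglyClosed_iff.mp hT).2 _ _ hf x hx hxT
  haveI : Finite T := finite_of_le hTS
  set C := centralizerIn S T with hCdef
  intro n
  induction n using Nat.strong_induction_on with
  | _ n ih =>
  intro P hn hPc δ hδ hδP
  rcases hPc.1.eq_or_lt with rfl | hlt
  · refine ⟨0, δ, hδ, hδP, fun c _ => ?_⟩
    rw [pow_zero, Function.iterate_one, inv_mul_cancel]
    exact one_mem _
  have hPS := hPc.1.trans hTS
  set N := normalizerIn T P with hNdef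
  have hPN : P < N := lt_normalizerIn (hS.to_le hTS) hlt
  have hNT : N ≤ T := normalizerIn_le T P
  haveI := finite_of_le hPS
  haveI : Finite N := finite_of_le (hNT.trans hTS)
  set M := P ⊔ C with hMdef
  have hCP : C ≤ centralizerIn S P := fun c hc => ⟨hc.1, Subgroup.centralizer_le hPc.1 hc.2⟩
  have hNC : N ⊔ C ≤ normalizerIn S P :=
    sup_le (fun x hx => ⟨hTS hx.1, hx.2⟩) (hCP.trans (centralizerIn_le_normalizerIn S P))
  have hMNC : M ≤ N ⊔ C := sup_le_sup_right hPN.le C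
  have hNM : ∀ x ∈ N, x ∈ normalizerIn S M := fun x hx => by
    refine ⟨hTS hx.1, mem_normalizer_sup hx.2 (Subgroup.mem_normalizer_iff.mpr fun z => ?_)⟩
    have key : ∀ t ∈ T, ∀ c ∈ C, t * c * t⁻¹ = c := fun t ht c hc => by
      rw [Subgroup.mem_centralizer_iff.mp hc.2 t ht]
      group
    refine ⟨fun hz => by rw [key x hx.1 z hz]; exact hz, fun hz => ?_⟩
    have h1 := key x⁻¹ (inv_mem hx.1) _ hz
    rw [show x⁻¹ * (x * z * x⁻¹) * x⁻¹⁻¹ = z by group] at h1
    rw [h1]; exact hz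
  -- move `P` to a fully normalized subgroup
  obtain ⟨P₀, hPP₀, hP₀n⟩ := exists_fullyNormalized (F := F) hPS
  obtain ⟨u, hu, huP, huN⟩ := exists_normalizer_map hS (fullyAutomized_of_fullyNormalized hS hF hP₀n)
    (receptive_of_fullyNormalized hS hF hP₀n) hPP₀
  have hP₀c : E.IsCentric P₀ := centric_of_map hS hE hPc huP
  set S₀ := normalizerIn S P₀ with hS₀
  haveI : Finite S₀ := finite_of_le (normalizerIn_le S P₀)
  have hS₀p : IsPGroup p S₀ := hS.to_le (normalizerIn_le S P₀)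
  set G := Fus93.innSystem F P₀ hP₀n.1
  have hGs : G.IsSaturated p := Fus93.innSystem_isSaturated hS hF hP₀n
  obtain ⟨M₁, hM₁⟩ := (hu.mono (hMNC.trans hNC)).exists_image
  have hM₁S₀ : M₁ ≤ S₀ := fun y hy => by
    obtain ⟨x, hx, rfl⟩ := hM₁.exists_preimage hy
    exact huN x (hNC (hMNC hx))
  obtain ⟨R, hM₁R, hRn⟩ := exists_fullyNormalized (F := G) hM₁S₀
  obtain ⟨w, hw, hwR, -⟩ := exists_normalizer_map hS₀p (fullyAutomized_of_fullyNormalized hS₀p hGs hRn)
    (receptive_of_fullyNormalized hS₀p hGs hRn) hM₁R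
  obtain ⟨hwF, -, hwS₀, w', -, hw'e, gw, hgw, hgwx⟩ := Fus93.isMap_innSystem.mp hw
  have huNC : ∀ x ∈ N ⊔ C, u x ∈ normalizerIn S₀ M₁ := isMap_mem_sup (hu.mono hNC) le_sup_left le_sup_right
    (fun x hx => ⟨huN x (hNC (Subgroup.mem_sup_left hx)),
      (map_mem_normalizer (hu.mono hNC) hMNC hM₁.2 (Subgroup.mem_sup_left hx) (hNM x hx).2).2⟩)
    (fun x hx => le_normalizerIn hM₁S₀ (hM₁.mem (Subgroup.mem_sup_right hx)))
  set θ := w ∘ u with hθdef
  have hθ : IsMap F (N ⊔ C) θ := (hu.mono hNC).comp hwF huNC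
  have hθM : IsIso F M R θ := hM₁.comp ⟨hwF.mono (le_normalizerIn hM₁S₀), hwR.2⟩
  have hθP : IsIso F P P₀ θ := by
    refine ⟨hθ.mono (hPN.le.trans le_sup_left), ?_⟩
    have hP₀M₁ : P₀ ≤ M₁ := fun y hy => by
      obtain ⟨x, hx, rfl⟩ := huP.exists_preimage hy
      exact hM₁.mem (Subgroup.mem_sup_left hx)
    rw [hθdef, Set.image_comp, huP.2]
    refine (Set.image_congr fun y hy => ?_).trans (image_conj_eq_self hgw.2)
    rw [← hw'e (le_normalizerIn hM₁S₀ (hP₀M₁ hy))]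
    exact hgwx y hy
  have hP₀R : P₀ ≤ R := fun y hy => by
    obtain ⟨x, hx, rfl⟩ := hθP.exists_preimage hy
    exact hθM.mem (Subgroup.mem_sup_left hx)
  have hRS₀ : R ≤ S₀ := hRn.1
  haveI := finite_of_le hRS₀
  haveI := finite_mulAut R
  set N' := normalizerIn T P₀ with hN'
  have hN'S₀ : N' ≤ S₀ := fun x hx => ⟨hTS hx.1, hx.2⟩
  have hN'R : ∀ t ∈ N', t ∈ Subgroup.normalizer (R : Set Ω) := by
    intro t ht
    have hm : ∀ x ∈ M, t * θ x * t⁻¹ ∈ R := isMap_mem_sup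
      (f := fun x => t * θ x * t⁻¹)
      (((hθ.mono hMNC).comp (isMap_conj le_rfl (hTS ht.1)) fun x hx => hθ.apply_mem (hMNC hx)))
      le_sup_left le_sup_right
      (fun x hx => hP₀R (conj_mem_of_mem_normalizer ht.2 (hθP.mem hx))) fun c hc => by
        have hy : θ c ∈ centralizerIn S P₀ :=
          map_mem_centralizer (hθ.mono hMNC) le_sup_left hθP.2 (Subgroup.mem_sup_right hc) (hCP hc).2
        have hty : t * θ c * t⁻¹ ∈ centralizerIn S P₀ := by
          refine ⟨S.mul_mem (S.mul_mem (hTS ht.1) hy.1) (S.inv_mem (hTS ht.1)),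
            Subgroup.mem_centralizer_iff.mpr fun z hz => ?_⟩
          have h1 := Subgroup.mem_centralizer_iff.mp hy.2 _
            (conj_mem_of_mem_normalizer (inv_mem ht.2) hz)
          calc z * (t * θ c * t⁻¹) = t * (t⁻¹ * z * t⁻¹⁻¹ * θ c) * t⁻¹ := by group
            _ = t * (θ c * (t⁻¹ * z * t⁻¹⁻¹)) * t⁻¹ := by rw [h1]
            _ = t * θ c * t⁻¹ * z := by group
        have hz : (θ c)⁻¹ * (t * θ c * t⁻¹) ∈ P₀ := hP₀c.2 P₀ (isConj_refl hP₀c.1) ⟨by
            have h1 := conj_mem_of_mem_normalizer (inv_mem (hSN hy.1)) ht.1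
            have := T.mul_mem h1 (T.inv_mem ht.1)
            simpa [mul_assoc] using this,
          (centralizerIn S P₀).mul_mem ((centralizerIn S P₀).inv_mem hy) hty |>.2⟩
        have := R.mul_mem (hθM.mem (Subgroup.mem_sup_right hc)) (hP₀R hz)
        rwa [mul_inv_cancel_left] at this
    refine Subgroup.mem_normalizer_iff.mpr fun y => ⟨fun hy => ?_, fun hy => ?_⟩
    · obtain ⟨x, hx, rfl⟩ := hθM.exists_preimage hy
      exact hm x hx
    · obtain ⟨z, hz, hzy⟩ := surjOn_of_card_le (M := R) (f := fun x => t * x * t⁻¹) (hRS₀.trans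
        (normalizerIn_le S P₀)) (fun _ _ _ _ h => mul_left_cancel (mul_right_cancel h))
        (fun x hx => by obtain ⟨m, hm', rfl⟩ := hθM.exists_preimage hx; exact hm m hm') le_rfl _ hy
      rwa [← mul_left_cancel (mul_right_cancel hzy)]
  -- the automorphism of `R`
  obtain ⟨θi, hθi, hθl, -⟩ := hθM.exists_inv
  set δ₁ := θ ∘ δ ∘ θi with hδ₁
  have hδ₁i : IsIso F R R δ₁ := (hθi.comp hδ).comp hθM
  have hδ₁P : ∀ y ∈ P₀, δ₁ y = y := fun y hy => by
    obtain ⟨x, hx, rfl⟩ := hθP.exists_preimage hy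
    rw [hδ₁, Function.comp_apply, Function.comp_apply, hθl x (Subgroup.mem_sup_left hx), hδP x hx]
  have hδ₁G : IsIso G R R δ₁ := ⟨Fus93.isMap_innSystem.mpr ⟨hδ₁i.1, hRS₀, fun x hx => hRS₀ (hδ₁i.mem hx),
    δ₁, hδ₁i.1.mono (sup_le le_rfl hP₀R), fun _ _ => rfl, 1, one_mem _, fun x hx => by simp [hδ₁P x hx]⟩,
    hδ₁i.2⟩
  obtain ⟨b, hb, hbe⟩ := hδ₁G.exists_aut
  have hAF : ∀ φ ∈ G.autGroup R, IsMap F R (autFun φ) := fun φ hφ =>
    (Fus93.isMap_innSystem.mp ((mem_autGroup hRS₀).mp hφ).1).1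
  let M₂ : Subgroup (G.autGroup R) :=
    { carrier := {φ | ∀ x ∈ R, x⁻¹ * autFun (φ : MulAut R) x ∈ T}
      one_mem' := fun x hx => by
        rw [Subgroup.coe_one, show autFun (1 : MulAut R) x = x from autFun_one hx, inv_mul_cancel]
        exact one_mem _
      mul_mem' := fun {φ φ'} h h' x hx => by
        rw [Subgroup.coe_mul, autFun_mul _ _ hx, Function.comp_apply]
        exact modT_trans (h' x hx) (h _ (autFun_mem _ hx))
      inv_mem' := fun {φ} h x hx => by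
        have h1 := h _ (autFun_mem (φ : MulAut R)⁻¹ hx)
        rw [autFun_apply_inv _ hx] at h1
        rw [Subgroup.coe_inv]
        exact modT_symm h1 }
  haveI : M₂.Normal := ⟨fun φ hφ ψ x hx => by
    rw [Subgroup.coe_mul, Subgroup.coe_mul, Subgroup.coe_inv, autFun_mul _ _ hx, Function.comp_apply,
      autFun_mul _ _ (autFun_mem _ hx), Function.comp_apply]
    have h1 := map_modT hT (hAF _ ψ.2) (autFun_mem _ hx) (autFun_mem _ (autFun_mem _ hx))
      (hφ _ (autFun_mem (ψ : MulAut R)⁻¹ hx))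
    rwa [autFun_apply_inv _ hx] at h1⟩
  obtain ⟨U, hU⟩ := (fullyAutomized_of_fullyNormalized hS₀p hGs hRn).2
  have hm : (⟨b, hb⟩ : G.autGroup R) ∈ (⊤ : Subgroup (G.autGroup R)) := Subgroup.mem_top _
  rw [← normalizer_inf_sylow_sup U M₂] at hm
  obtain ⟨ν, hν, m, hmM, hνm⟩ := Subgroup.mem_sup_of_normal_right.mp hm
  have hνi := (mem_autGroup hRS₀).mp ν.2
  have hext : IsExtendable S₀ R (autFun (ν : MulAut R)) N' := by
    refine ⟨hN'S₀, fun t ht => ⟨hN'R t ht, ?_⟩⟩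
    have htN : t ∈ normalizerIn S₀ R := ⟨hN'S₀ ht, hN'R t ht⟩
    rw [← congr_autInducedBy_mem hνi htN]
    have hind : conjAutHom S₀ R ⟨t, htN⟩ ∈ autInducedBy S₀ R := by
      rw [← range_conjAutHom]; exact ⟨_, rfl⟩
    have hcU : (⟨_, autInducedBy_le_autGroup hRS₀ hind⟩ : G.autGroup R) ∈
        (U : Subgroup (G.autGroup R)) ⊓ M₂ := by
      refine ⟨show _ ∈ (U : Subgroup (G.autGroup R)) from by rw [hU, Subgroup.mem_subgroupOf]; exact hind,
        fun x hx => ?_⟩
      rw [autFun_of_mem _ hx, conjAutHom_apply]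
      have h1 := conj_mem_of_mem_normalizer (inv_mem (hSN (normalizerIn_le S P₀ (hRS₀ hx)))) ht.1
      have := T.mul_mem h1 (T.inv_mem ht.1)
      simpa [mul_assoc] using this
    have h1 : ν * ⟨_, autInducedBy_le_autGroup hRS₀ hind⟩ * ν⁻¹ ∈ (U : Subgroup (G.autGroup R)) :=
      (conj_mem_of_mem_normalizer hν hcU).1
    rw [hU, Subgroup.mem_subgroupOf] at h1
    rw [show hνi.equiv = (ν : MulAut R) from MulEquiv.ext fun x => Subtype.ext (by
      rw [hνi.equiv_apply, autFun_coe])]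
    exact h1
  obtain ⟨ν', hν'G, hν'e⟩ := receptive_extend (receptive_of_fullyNormalized hS₀p hGs hRn) hνi hext
  obtain ⟨hν', -, -, ν'', -, hν''e, g₀, hg₀, hg₀x⟩ := Fus93.isMap_innSystem.mp hν'G
  have hν'P : ∀ x ∈ P₀, ν' x = g₀ * x * g₀⁻¹ := fun x hx =>
    (hν''e (Subgroup.mem_sup_left (hP₀R hx))).symm.trans (hg₀x x hx)
  set Z := R ⊔ N' with hZ
  have hν'Z : ∀ x ∈ Z, ν' x ∈ Z := isMap_mem_sup hν' le_sup_left le_sup_right
    (fun x hx => Subgroup.mem_sup_left (by rw [hν'e hx]; exact autFun_mem _ hx))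
    fun x hx => Subgroup.mem_sup_right ⟨hclosed hν' x (Subgroup.mem_sup_right hx) hx.1,
      (map_mem_normalizer hν' (hP₀R.trans le_sup_left) ((Set.image_congr hν'P).trans
        (image_conj_eq_self hg₀.2)) (Subgroup.mem_sup_right hx) hx.2).2⟩
  have hν'i : IsIso F Z Z ν' := ⟨hν', Set.Subset.antisymm (fun y ⟨x, hx, hy⟩ => hy ▸ hν'Z x hx)
    fun y hy => surjOn_of_card_le hν'.dom_le hν'.injOn hν'Z le_rfl y hy⟩
  obtain ⟨k, hk⟩ := exists_pow_p (normalizerIn_le S P₀ |> fun h => hS.to_le h) hg₀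
  set ε := ν'^[p ^ k] with hεdef
  have hεi : IsIso F Z Z ε := iterate_isMap hν'i _
  have hεP : ∀ x ∈ P₀, ε x = x := exists_iterate_fix hν'P hg₀.2 hk
  have hεy : ∀ y ∈ N', y⁻¹ * ε y ∈ P₀ := fun y hy => by
    refine hP₀c.2 P₀ (isConj_refl hP₀c.1) ⟨T.mul_mem (T.inv_mem hy.1)
      (hclosed hεi.1 y (Subgroup.mem_sup_right hy) hy.1), Subgroup.mem_centralizer_iff.mpr fun z hz => ?_⟩
    have h1 := hεi.1.map_conj (Subgroup.mem_sup_right hy : y ∈ Z) (Subgroup.mem_sup_left (hP₀R hz) : z ∈ Z)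
    rw [hεP z hz, hεP _ (conj_mem_of_mem_normalizer hy.2 hz)] at h1
    calc z * (y⁻¹ * ε y) = y⁻¹ * (y * z * y⁻¹) * ε y := by group
      _ = y⁻¹ * (ε y * z * (ε y)⁻¹) * ε y := by rw [h1]
      _ = y⁻¹ * ε y * z := by group
  have hiter : ∀ (i : ℕ), ∀ y ∈ N', ε^[i] y = y * (y⁻¹ * ε y) ^ i := by
    intro i
    induction i with
    | zero => intro y _; simp
    | succ i ihi =>
      intro y hy
      rw [Function.iterate_succ_apply', ihi y hy, hεi.1.map_mul (Subgroup.mem_sup_right hy : y ∈ Z)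
        (Subgroup.mem_sup_left (hP₀R (pow_mem (hεy y hy) i)) : (y⁻¹ * ε y) ^ i ∈ Z),
        hεP _ (pow_mem (hεy y hy) i), pow_succ', mul_assoc, mul_inv_cancel_left]
  haveI := finite_of_le hP₀n.1
  obtain ⟨l, hl⟩ := IsPGroup.iff_card.mp (hS.to_le hP₀n.1)
  set J := p ^ (k + l) with hJ
  set h := ν'^[J] with hhdef
  have hhi : IsIso F Z Z h := iterate_isMap hν'i _
  have hhN : ∀ y ∈ N', h y = y := fun y hy => by
    rw [hhdef, hJ, pow_add, Function.iterate_mul, ← hεdef, hiter _ y hy]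
    have h1 : (y⁻¹ * ε y) ^ p ^ l = 1 := by
      have := pow_card_eq_one' (G := P₀) (x := ⟨_, hεy y hy⟩)
      rw [hl] at this
      simpa using congrArg Subtype.val this
    rw [h1, mul_one]
  -- congruence on `R`
  have hν'R : IsIso F R R ν' := IsIso.congr ⟨hAF _ ν.2, autFun_image _⟩ hν'e.symm
  have hmod : ModT T R δ₁ ν' := fun x hx => by
    have h1 : δ₁ x = autFun (ν : MulAut R) (autFun (m : MulAut R) x) := by
      rw [← hbe hx]
      show autFun ((⟨b, hb⟩ : G.autGroup R) : MulAut R) x = _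
      rw [← hνm, Subgroup.coe_mul, autFun_mul _ _ hx, Function.comp_apply]
    rw [h1, hν'e hx]
    exact modT_symm (map_modT hT (hAF _ ν.2) hx (autFun_mem _ hx) (hmM x hx))
  have hmodJ := modT_iterate hT hδ₁i hν'R hmod J
  -- pull back
  obtain ⟨I, hI⟩ := hθ.exists_image
  obtain ⟨θI, hθI, hθIl, -⟩ := hI.exists_inv
  have hθN : ∀ x ∈ N, θ x ∈ N' := fun x hx => ⟨hclosed hθ x (Subgroup.mem_sup_left hx) hx.1,
    (map_mem_normalizer hθ (hPN.le.trans le_sup_left) hθP.2 (Subgroup.mem_sup_left hx) hx.2).2⟩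
  have hθZ : ∀ x ∈ N ⊔ C, θ x ∈ Z := isMap_mem_sup hθ le_sup_left le_sup_right
    (fun x hx => Subgroup.mem_sup_right (hθN x hx))
    fun x hx => Subgroup.mem_sup_left (hθM.mem (Subgroup.mem_sup_right hx))
  have hRI : ∀ y ∈ R, y ∈ I := fun y hy => by
    obtain ⟨x, hx, rfl⟩ := hθM.exists_preimage hy
    exact hI.mem (hMNC hx)
  have hhθ : IsMap F (N ⊔ C) (h ∘ θ) := hθ.comp hhi.1 hθZ
  have hhI : ∀ x ∈ N ⊔ C, h (θ x) ∈ I := isMap_mem_sup hhθ le_sup_left le_sup_right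
    (fun x hx => by show h (θ x) ∈ I; rw [hhN _ (hθN x hx)]; exact hI.mem (Subgroup.mem_sup_left hx))
    fun x hx => hRI _ ((iterate_isMap hν'R J).mem (hθM.mem (Subgroup.mem_sup_right hx)))
  set δ' := θI ∘ h ∘ θ with hδ'
  have hδ'm : IsMap F (N ⊔ C) δ' := hhθ.comp hθI.1 hhI
  have hδ'i : IsIso F (N ⊔ C) (N ⊔ C) δ' := ⟨hδ'm, Set.Subset.antisymm
    (fun y ⟨x, hx, hy⟩ => hy ▸ hθI.mem (hhI x hx))
    fun y hy => surjOn_of_card_le hδ'm.dom_le hδ'm.injOn (fun x hx => hθI.mem (hhI x hx)) le_rfl y hy⟩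
  have hδ'N : ∀ x ∈ N, δ' x = x := fun x hx => by
    rw [hδ', Function.comp_apply, Function.comp_apply, hhN _ (hθN x hx), hθIl x (Subgroup.mem_sup_left hx)]
  have hδJ : IsIso F M M (δ^[J]) := iterate_isMap hδ _
  have hconjJ : ∀ (i : ℕ), ∀ x ∈ M, θ (δ^[i] x) = δ₁^[i] (θ x) := by
    intro i
    induction i with
    | zero => intro x _; rfl
    | succ i ihi =>
      intro x hx
      rw [Function.iterate_succ_apply', Function.iterate_succ_apply', ← ihi x hx, hδ₁, Function.comp_apply,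
        Function.comp_apply, hθl _ ((iterate_isMap hδ i).mem hx)]
  have hcong : ∀ c ∈ C, (δ^[J] c)⁻¹ * δ' c ∈ T := fun c hc => by
    have h1 := hmodJ (θ c) (hθM.mem (Subgroup.mem_sup_right hc))
    rw [← hconjJ J c (Subgroup.mem_sup_right hc)] at h1
    have hm1 : δ^[J] c ∈ N ⊔ C := hMNC (hδJ.mem (Subgroup.mem_sup_right hc))
    have h2 := map_modT hT hθI.1 (hI.mem hm1) (hhI c (Subgroup.mem_sup_right hc)) h1
    rwa [hθIl _ hm1] at h2
  -- induction
  have hNc : E.IsCentric N := Fus93.isCentric_of_le hPc hPN.le hNT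
  have hlt2 : Nat.card P < Nat.card N := lt_of_le_of_ne (Subgroup.card_le_of_le hPN.le) fun h =>
    hPN.ne (Subgroup.eq_of_le_of_card_ge hPN.le h.ge)
  have hle2 : Nat.card N ≤ Nat.card T := Subgroup.card_le_of_le hNT
  obtain ⟨j, β, hβ, hβT, hβC⟩ := ih _ (by omega) N rfl hNc δ' hδ'i hδ'N
  refine ⟨k + l + j, β, hβ, hβT, fun c hc => ?_⟩
  -- `δ'` stabilizes `M`
  have hδ'M : ∀ x ∈ M, δ' x ∈ M := isMap_mem_sup (hδ'm.mono hMNC) le_sup_left le_sup_right
    (fun x hx => by rw [hδ'N x (hPN.le hx)]; exact Subgroup.mem_sup_left hx) fun c hc => by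
      have hfix : ∀ x ∈ P, δ^[J] x = x := fun x hx => Function.iterate_fixed (hδP x hx) J
      have ht : (δ^[J] c)⁻¹ * δ' c ∈ P := hPc.2 P (isConj_refl hPc.1) ⟨hcong c hc,
        (centralizerIn S P).mul_mem ((centralizerIn S P).inv_mem (map_mem_centralizer hδJ.1 le_sup_left
          ((Set.image_congr hfix).trans (Set.image_id' _)) (Subgroup.mem_sup_right hc) (hCP hc).2))
          (map_mem_centralizer hδ'm (hPN.le.trans le_sup_left)
            ((Set.image_congr fun x hx => hδ'N x (hPN.le hx)).trans (Set.image_id' _))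
            (Subgroup.mem_sup_right hc) (hCP hc).2) |>.2⟩
      have := M.mul_mem (hδJ.mem (Subgroup.mem_sup_right hc : c ∈ M)) (Subgroup.mem_sup_left ht)
      rwa [mul_inv_cancel_left] at this
  have hδ'Mi : IsIso F M M δ' := ⟨hδ'm.mono hMNC, Set.Subset.antisymm (fun y ⟨x, hx, hy⟩ => hy ▸ hδ'M x hx)
    fun y hy => surjOn_of_card_le hδ.dom_le (hδ'm.mono hMNC).injOn hδ'M le_rfl y hy⟩
  have hmodM : ModT T M (δ^[J]) δ' := modT_sup hT hSN hδJ.1 hδ'Mi.1 le_sup_left le_sup_right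
    (fun x hx => by rw [Function.iterate_fixed (hδP x hx) J, hδ'N x (hPN.le hx), inv_mul_cancel]; exact one_mem _)
    hcong
  have h3 := modT_iterate hT hδJ hδ'Mi hmodM (p ^ j) c (Subgroup.mem_sup_right hc)
  rw [← Function.iterate_mul, hJ, ← pow_add] at h3
  exact modT_trans h3 (hβC c hc)

/-- `f` extends to `P C_S(T)` acting trivially modulo `T` on `C_S(T)`. -/
def LiftTo (F : FusionSystem S) (T P : Subgroup Ω) (f : Ω → Ω) : Prop :=
  ∃ ψ, IsMap F (P ⊔ centralizerIn S T) ψ ∧ Set.EqOn ψ f P ∧ ∀ c ∈ centralizerIn S T, c⁻¹ * ψ c ∈ T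

theorem LiftTo.isIso (hT : F.StronglyClosed T) {P P' : Subgroup Ω} (hP : P ≤ T) {f ψ : Ω → Ω}
    (hi : IsIso E P P' f) (hP'c : E.IsCentric P') (hψ : IsMap F (P ⊔ centralizerIn S T) ψ)
    (he : Set.EqOn ψ f P) (hc : ∀ c ∈ centralizerIn S T, c⁻¹ * ψ c ∈ T) :
    IsIso F (P ⊔ centralizerIn S T) (P' ⊔ centralizerIn S T) ψ ∧
      ∀ c ∈ centralizerIn S T, c⁻¹ * ψ c ∈ P' := by
  set C := centralizerIn S T
  have hP'T : P' ≤ T := hP'c.1
  have him : ψ '' (P : Set Ω) = (P' : Set Ω) := (Set.image_congr he).trans hi.2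
  have hCP : ∀ {X : Subgroup Ω}, X ≤ T → C ≤ centralizerIn S X := fun hX c hc =>
    ⟨hc.1, Subgroup.centralizer_le hX hc.2⟩
  have hz : ∀ c ∈ C, c⁻¹ * ψ c ∈ P' := fun c hc' => hP'c.2 P' (isConj_refl hP'T) ⟨hc c hc',
    ((centralizerIn S P').mul_mem ((centralizerIn S P').inv_mem (hCP hP'T hc'))
      (map_mem_centralizer hψ le_sup_left him (Subgroup.mem_sup_right hc') (hCP hP hc').2)).2⟩
  have hmem : ∀ x ∈ P ⊔ C, ψ x ∈ P' ⊔ C := isMap_mem_sup hψ le_sup_left le_sup_right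
    (fun x hx => Subgroup.mem_sup_left (by rw [he hx]; exact hi.mem hx)) fun c hc' => by
      have := (P' ⊔ C).mul_mem (Subgroup.mem_sup_right hc') (Subgroup.mem_sup_left (hz c hc'))
      rwa [mul_inv_cancel_left] at this
  obtain ⟨I, hI⟩ := hψ.exists_image
  have hle : P' ⊔ C ≤ I := by
    refine sup_le (fun y hy => ?_) fun c hc' => ?_
    · rw [← SetLike.mem_coe, ← him] at hy
      obtain ⟨x, hx, rfl⟩ := hy
      exact hI.mem (Subgroup.mem_sup_left hx)
    · have h1 : c⁻¹ * ψ c ∈ I := by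
        have hy : c⁻¹ * ψ c ∈ ψ '' (P : Set Ω) := by rw [him]; exact hz c hc'
        obtain ⟨x, hx, hxe⟩ := hy
        exact hxe ▸ hI.mem (Subgroup.mem_sup_left hx)
      have := I.mul_mem (hI.mem (Subgroup.mem_sup_right hc')) (I.inv_mem h1)
      simpa [mul_assoc] using this
  refine ⟨⟨hψ, ?_⟩, hz⟩
  rw [show P' ⊔ C = I from le_antisymm hle fun y hy => by
    obtain ⟨x, hx, rfl⟩ := hI.exists_preimage hy
    exact hmem x hx]
  exact hI.2

/-- The generated maps of `E` lift on centric subgroups. -/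
theorem liftTo_gen (hS : IsPGroup p S) (hE : E.IsWeaklyNormalIn F p) {Q : Subgroup Ω} {f : Ω → Ω}
    (hg : Gen E p Q f) : ∀ P, P ≤ Q → E.IsCentric P → LiftTo F T P f := by
  obtain ⟨hEs, hF, hinv⟩ := id hE
  have hT := hinv.2.1
  have hTS := hT.1
  have hSN : S ≤ Subgroup.normalizer (T : Set Ω) := stronglyClosed_le_normalizer hT
  haveI : Finite T := finite_of_le hTS
  induction hg with
  | @conj P' s hP' hs =>
    intro P hP hPc
    refine ⟨fun x => s * x * s⁻¹, isMap_conj (sup_le (hPc.1.trans hTS) inf_le_left) (hTS hs),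
      fun _ _ => rfl, fun c hc => ?_⟩
    show c⁻¹ * (s * c * s⁻¹) ∈ T
    rw [Subgroup.mem_centralizer_iff.mp hc.2 s hs]
    simp
  | @aut P' Q a hQ ha hk hP'Q =>
    intro P hP hPc
    obtain ⟨R, θ, t, hRn, hRT, hθ, ht, htN, hte⟩ := exists_conjT hS hE hQ.1 ha hk
    obtain ⟨θ', hθ', hθe⟩ := receptive_extend (receptive_of_fullyNormalized hS hF hRn) hθ
      (isExtendable_centralizerIn θ)
    have hRc : E.IsCentric R := centric_of_map hS hE hQ hθ
    have him : θ' '' (Q : Set Ω) = (R : Set Ω) := (Set.image_congr hθe).trans hθ.2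
    obtain ⟨I, hI⟩ := hθ'.exists_image
    obtain ⟨θi, hθi, hθl, -⟩ := hI.exists_inv
    have hRI : R ≤ I := fun y hy => by
      rw [← SetLike.mem_coe, ← him] at hy
      obtain ⟨x, hx, rfl⟩ := hy
      exact hI.mem (Subgroup.mem_sup_left hx)
    have hz : ∀ c ∈ centralizerIn S Q, (θ' c)⁻¹ * (t * θ' c * t⁻¹) ∈ R := fun c hc => by
      have hy : θ' c ∈ centralizerIn S R :=
        map_mem_centralizer hθ' le_sup_left him (Subgroup.mem_sup_right hc) hc.2
      have hty : t * θ' c * t⁻¹ ∈ centralizerIn S R := by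
        refine ⟨S.mul_mem (S.mul_mem (hTS ht) hy.1) (S.inv_mem (hTS ht)),
          Subgroup.mem_centralizer_iff.mpr fun z hz => ?_⟩
        have h1 := Subgroup.mem_centralizer_iff.mp hy.2 _ (conj_mem_of_mem_normalizer (inv_mem htN) hz)
        calc z * (t * θ' c * t⁻¹) = t * (t⁻¹ * z * t⁻¹⁻¹ * θ' c) * t⁻¹ := by group
          _ = t * (θ' c * (t⁻¹ * z * t⁻¹⁻¹)) * t⁻¹ := by rw [h1]
          _ = t * θ' c * t⁻¹ * z := by group
      refine hRc.2 R (isConj_refl hRT) ⟨?_,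
        ((centralizerIn S R).mul_mem ((centralizerIn S R).inv_mem hy) hty).2⟩
      have h1 := conj_mem_of_mem_normalizer (inv_mem (hSN hy.1)) ht
      have := T.mul_mem h1 (T.inv_mem ht)
      simpa [mul_assoc] using this
    set κ := fun x => t * θ' x * t⁻¹ with hκ
    have hκm : IsMap F (Q ⊔ centralizerIn S Q) κ :=
      hθ'.comp (isMap_conj le_rfl (hTS ht)) fun x hx => hθ'.apply_mem hx
    have hκI : ∀ x ∈ Q ⊔ centralizerIn S Q, κ x ∈ I := isMap_mem_sup hκm le_sup_left le_sup_right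
      (fun x hx => hRI (conj_mem_of_mem_normalizer htN (by rw [hθe hx]; exact hθ.mem hx))) fun c hc => by
        have := I.mul_mem (hI.mem (Subgroup.mem_sup_right hc)) (hRI (hz c hc))
        rwa [mul_inv_cancel_left] at this
    have hle : P ⊔ centralizerIn S T ≤ Q ⊔ centralizerIn S Q :=
      sup_le_sup (hP.trans hP'Q) fun c hc => ⟨hc.1, Subgroup.centralizer_le hQ.1 hc.2⟩
    refine ⟨θi ∘ κ, (hκm.comp hθi.1 hκI).mono hle, fun x hx => ?_, fun c hc => ?_⟩
    · have hxQ := hP'Q (hP hx)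
      simp only [Function.comp_apply, hκ]
      rw [hθe hxQ, ← hte x hxQ, ← hθe (autFun_mem a hxQ), hθl _ (Subgroup.mem_sup_left (autFun_mem a hxQ))]
    · have hcQ : c ∈ centralizerIn S Q := ⟨hc.1, Subgroup.centralizer_le hQ.1 hc.2⟩
      have hmθ := hI.mem (Subgroup.mem_sup_right hcQ : c ∈ Q ⊔ centralizerIn S Q)
      have h1 : θi (θ' c) = c := hθl c (Subgroup.mem_sup_right hcQ)
      have h2 := map_modT hT hθi.1 hmθ (hκI c (Subgroup.mem_sup_right hcQ)) (hRT (hz c hcQ))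
      rw [h1] at h2
      exact h2
  | @comp P' Q' f g hf hg hm ihf ihg =>
    intro P hP hPc
    have hfE : IsMap E P f := hf.isMap.mono hP
    obtain ⟨P₁, hP₁⟩ := hfE.exists_image
    have hP₁c : E.IsCentric P₁ := PrimeToP.isCentric_of_isConj hPc hP₁.isConj
    obtain ⟨ψ, hψ, he, hc⟩ := ihf P hP hPc
    obtain ⟨hψi, -⟩ := LiftTo.isIso hT hPc.1 hP₁ hP₁c hψ he hc
    obtain ⟨ψ', hψ', he', hc'⟩ := ihg P₁ (fun y hy => by
      obtain ⟨x, hx, rfl⟩ := hP₁.exists_preimage hy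
      exact hm x (hP hx)) hP₁c
    refine ⟨ψ' ∘ ψ, hψi.comp_map hψ', fun x hx => ?_, fun c hcC => ?_⟩
    · rw [Function.comp_apply, he hx, he' (hP₁.mem hx), Function.comp_apply]
    · exact modT_trans (hc' c hcC) (map_modT hT hψ' (Subgroup.mem_sup_right hcC)
        (hψi.mem (Subgroup.mem_sup_right hcC)) (hc c hcC))
  | @inv P' Q' f g hf him hl ihf =>
    intro P hP hPc
    have hi : IsIso E P' Q' f := ⟨hf.isMap, him⟩
    obtain ⟨k, hk, hkl, -⟩ := hi.exists_inv
    have hgi : IsIso E Q' P' g := hk.congr fun y hy => by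
      obtain ⟨x, hx, rfl⟩ := hi.exists_preimage hy
      rw [hkl x hx, hl x hx]
    obtain ⟨P₁, hP₁P', hP₁⟩ := hgi.restrict hP
    have hP₁c : E.IsCentric P₁ := PrimeToP.isCentric_of_isConj hPc hP₁.isConj
    have hfP : IsIso E P₁ P f := by
      refine ⟨hf.isMap.mono hP₁P', ?_⟩
      rw [← hP₁.2, ← Set.image_comp]
      refine (Set.image_congr fun y hy => ?_).trans (Set.image_id' _)
      obtain ⟨x, hx, rfl⟩ := hi.exists_preimage (hP hy)
      rw [Function.comp_apply, hl x hx]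
    obtain ⟨ψ, hψ, he, hc⟩ := ihf P₁ hP₁P' hP₁c
    obtain ⟨hψi, hcP⟩ := LiftTo.isIso hT hP₁c.1 hfP hPc hψ he hc
    obtain ⟨ψi, hψii, hψl, hψr⟩ := hψi.exists_inv
    refine ⟨ψi, hψii.1, fun y hy => ?_, fun c hcC => ?_⟩
    · obtain ⟨x, hx, rfl⟩ := hfP.exists_preimage hy
      rw [← he hx, hψl x (Subgroup.mem_sup_left hx), he hx, hl x (hP₁P' hx)]
    · have h1 := map_modT hT hψii.1 (Subgroup.mem_sup_right hcC)
        (hψi.mem (Subgroup.mem_sup_right hcC)) (hc c hcC)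
      rw [hψl c (Subgroup.mem_sup_right hcC)] at h1
      exact modT_symm h1
  | @congr P' f g _ he ih =>
    intro P hP hPc
    obtain ⟨ψ, hψ, he', hc⟩ := ih P hP hPc
    exact ⟨ψ, hψ, he'.trans (he.mono hP), hc⟩

/-- The automorphisms of `T` extending to `T C_S(T)` trivially modulo `T`. -/
def extTriv (hE : E.IsWeaklyNormalIn F p) : Subgroup (MulAut T) where
  carrier := {a | ∃ β, IsIso F (T ⊔ centralizerIn S T) (T ⊔ centralizerIn S T) β ∧
    Set.EqOn β (autFun a) T ∧ ∀ c ∈ centralizerIn S T, c⁻¹ * β c ∈ T}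
  one_mem' := ⟨id, isIso_id (sup_le hE.2.2.2.1.1 inf_le_left), autFun_one.symm, fun c _ => by simp⟩
  mul_mem' {a b} ha hb := by
    obtain ⟨β, hβ, he, hc⟩ := ha
    obtain ⟨γ, hγ, he', hc'⟩ := hb
    refine ⟨β ∘ γ, hγ.comp hβ, fun x hx => ?_, fun c hcC => ?_⟩
    · rw [Function.comp_apply, he' hx, he (autFun_mem b hx), autFun_mul a b hx, Function.comp_apply]
    · exact modT_trans (hc c hcC) (map_modT hE.2.2.2.1 hβ.1 (Subgroup.mem_sup_right hcC)
        (hγ.mem (Subgroup.mem_sup_right hcC)) (hc' c hcC))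
  inv_mem' {a} ha := by
    obtain ⟨β, hβ, he, hc⟩ := ha
    obtain ⟨βi, hβi, hl, -⟩ := hβ.exists_inv
    refine ⟨βi, hβi, fun x hx => ?_, fun c hcC => ?_⟩
    · conv_lhs => rw [← autFun_apply_inv a hx, ← he (autFun_mem _ hx),
        hl _ (Subgroup.mem_sup_left (autFun_mem _ hx))]
    · have h1 := map_modT hE.2.2.2.1 hβi.1 (Subgroup.mem_sup_right hcC)
        (hβ.mem (Subgroup.mem_sup_right hcC)) (hc c hcC)
      rw [hl c (Subgroup.mem_sup_right hcC)] at h1
      exact modT_symm h1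

/-- The automorphisms of `T` in the residual extend trivially modulo `T`. -/
theorem h0_le_extTriv (hS : IsPGroup p S) (hE : E.IsWeaklyNormalIn F p) : H0 E p ≤ extTriv hE := by
  obtain ⟨hEs, hF, hinv⟩ := id hE
  have hT := hinv.2.1
  have hTS := hT.1
  have hSN : S ≤ Subgroup.normalizer (T : Set Ω) := stronglyClosed_le_normalizer hT
  haveI : Finite T := finite_of_le hTS
  set C := centralizerIn S T with hC
  have hW : T ⊔ C ≤ S := sup_le hTS inf_le_left
  haveI := finite_of_le hW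
  have hI : Cfsg.Inn T ≤ extTriv hE := by
    intro a ha
    obtain ⟨t, ht, hta⟩ := mem_inn.mp ha
    refine ⟨fun x => t * x * t⁻¹, ⟨isMap_conj hW (hTS ht),
      image_conj_eq_self ((T ⊔ C).le_normalizer (Subgroup.mem_sup_left ht))⟩,
      fun x hx => ((autFun_of_mem a hx).trans (hta ⟨x, hx⟩)).symm, fun c hc => ?_⟩
    show c⁻¹ * (t * c * t⁻¹) ∈ T
    rw [Subgroup.mem_centralizer_iff.mp hc.2 t ht]
    simp
  refine (Subgroup.closure_le _).mpr ?_
  rintro a ⟨haE, P, hPc, hg⟩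
  obtain ⟨ψ, hψ, hψe, hψc⟩ := liftTo_gen hS hE hg P le_rfl hPc
  obtain ⟨P', hP'⟩ := hg.isMap.exists_image
  obtain ⟨hψi, -⟩ := LiftTo.isIso hT hPc.1 hP' (PrimeToP.isCentric_of_isConj hPc hP'.isConj) hψ hψe hψc
  -- an extension of `a`
  have hTn : F.IsFullyNormalized T := by
    refine ⟨hTS, fun Q _ => ?_⟩
    rw [show FusionSystem.normalizerIn S T = S from inf_eq_left.mpr hSN]
    exact Subgroup.card_le_of_le inf_le_left
  have haF : a ∈ F.autGroup T := autGroup_mono (hinv.1 T) haE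
  have hai := (mem_autGroup hTS).mp haF
  obtain ⟨β, hβm, hβe⟩ := receptive_extend (receptive_of_fullyNormalized hS hF hTn) hai
    (isExtendable_centralizerIn _)
  have himT : β '' (T : Set Ω) = (T : Set Ω) := (Set.image_congr hβe).trans hai.2
  have hβW : ∀ x ∈ T ⊔ C, β x ∈ T ⊔ C := isMap_mem_sup hβm le_sup_left le_sup_right
    (fun x hx => Subgroup.mem_sup_left (by rw [hβe hx]; exact autFun_mem a hx))
    fun c hc => Subgroup.mem_sup_right
      (map_mem_centralizer hβm le_sup_left himT (Subgroup.mem_sup_right hc) hc.2)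
  obtain ⟨b, hb, hbe⟩ := (show IsIso F (T ⊔ C) (T ⊔ C) β from ⟨hβm, Set.Subset.antisymm
    (fun y ⟨x, hx, hy⟩ => hy ▸ hβW x hx)
    fun y hy => surjOn_of_card_le hW hβm.injOn hβW le_rfl y hy⟩).exists_aut
  have hbiF := (mem_autGroup hW).mp (inv_mem hb)
  have hP'T : P' ≤ T := hP'.cod_le
  have hM'W : P' ⊔ C ≤ T ⊔ C := sup_le_sup_right hP'T C
  have hMW : P ⊔ C ≤ T ⊔ C := sup_le_sup_right hPc.1 C
  set δ := autFun b⁻¹ ∘ ψ with hδdef
  have hδm : IsMap F (P ⊔ C) δ := hψ.comp hbiF.1 fun x hx => hM'W (hψi.mem hx)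
  have hδP : ∀ x ∈ P, δ x = x := fun x hx => by
    have hxW : x ∈ T ⊔ C := Subgroup.mem_sup_left (hPc.1 hx)
    rw [hδdef, Function.comp_apply, hψe hx, ← hβe (hPc.1 hx), ← hbe hxW, autFun_inv_apply b hxW]
  have hδc : ∀ c ∈ C, (autFun b⁻¹ c)⁻¹ * δ c ∈ T := fun c hc =>
    map_modT hT hbiF.1 (Subgroup.mem_sup_right hc) (hM'W (hψi.mem (Subgroup.mem_sup_right hc))) (hψc c hc)
  have hδM : ∀ x ∈ P ⊔ C, δ x ∈ P ⊔ C := isMap_mem_sup hδm le_sup_left le_sup_right
    (fun x hx => by rw [hδP x hx]; exact Subgroup.mem_sup_left hx) fun c hc => by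
      have himT' := closed_autFun_image hT hW (inv_mem hb)
      rw [inf_eq_left.mpr (le_sup_left : T ≤ T ⊔ C)] at himT'
      have h1 : autFun b⁻¹ c ∈ C :=
        map_mem_centralizer hbiF.1 le_sup_left himT' (Subgroup.mem_sup_right hc) hc.2
      have hCP : C ≤ centralizerIn S P := fun d hd => ⟨hd.1, Subgroup.centralizer_le hPc.1 hd.2⟩
      have ht : (autFun b⁻¹ c)⁻¹ * δ c ∈ P := hPc.2 P (isConj_refl hPc.1) ⟨hδc c hc,
        ((centralizerIn S P).mul_mem ((centralizerIn S P).inv_mem (hCP h1))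
          (map_mem_centralizer hδm le_sup_left ((Set.image_congr hδP).trans (Set.image_id' _))
            (Subgroup.mem_sup_right hc) (hCP hc).2)).2⟩
      have := (P ⊔ C).mul_mem (Subgroup.mem_sup_right h1) (Subgroup.mem_sup_left ht)
      rwa [mul_inv_cancel_left] at this
  have hδi : IsIso F (P ⊔ C) (P ⊔ C) δ := ⟨hδm, Set.Subset.antisymm
    (fun y ⟨x, hx, hy⟩ => hy ▸ hδM x hx)
    fun y hy => surjOn_of_card_le hδm.dom_le hδm.injOn hδM le_rfl y hy⟩
  obtain ⟨j, γ, hγ, hγT, hγC⟩ := exists_fixT hS hE _ P rfl hPc δ hδi hδP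
  have hmodM : ModT T (P ⊔ C) (autFun b⁻¹) δ := modT_sup hT hSN (hbiF.1.mono hMW) hδm le_sup_left
    le_sup_right (fun x hx => mul_mem (inv_mem ((stronglyClosed_iff.mp hT).2 _ _ hbiF.1 x
      (Subgroup.mem_sup_left (hPc.1 hx)) (hPc.1 hx))) (by rw [hδP x hx]; exact hPc.1 hx)) hδc
  have hiter : ∀ (i : ℕ), ∀ c ∈ C, (autFun (b⁻¹ ^ i) c)⁻¹ * δ^[i] c ∈ T := by
    intro i
    induction i with
    | zero => intro c hc; rw [pow_zero, show autFun (1 : MulAut ↥(T ⊔ C)) c = c from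
        autFun_one (Subgroup.mem_sup_right hc), Function.iterate_zero_apply, inv_mul_cancel]; exact one_mem _
    | succ i ihi =>
      intro c hc
      have hcW : c ∈ T ⊔ C := Subgroup.mem_sup_right hc
      have hm := (iterate_isMap hδi i).mem (Subgroup.mem_sup_right hc : c ∈ P ⊔ C)
      rw [pow_succ', autFun_mul _ _ hcW, Function.comp_apply, Function.iterate_succ_apply']
      exact modT_trans (map_modT hT hbiF.1 (autFun_mem _ hcW) (hMW hm) (ihi c hc)) (hmodM _ hm)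
  refine mem_of_pow_p_mem hS hEs hTS hI haE (j := j) ?_
  refine ⟨autFun (b ^ p ^ j) ∘ γ, hγ.comp ((mem_autGroup hW).mp (pow_mem hb _)), fun x hx => ?_,
    fun c hc => ?_⟩
  · rw [Function.comp_apply, hγT x hx]
    have hpow : ∀ i : ℕ, ∀ x ∈ T, autFun (b ^ i) x = autFun (a ^ i) x := by
      intro i
      induction i with
      | zero =>
        intro x hx
        rw [pow_zero, pow_zero, autFun_one hx]
        exact autFun_one (Subgroup.mem_sup_left hx)
      | succ i ihi =>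
        intro x hx
        rw [pow_succ', pow_succ', autFun_mul _ _ (Subgroup.mem_sup_left hx : x ∈ T ⊔ C),
          autFun_mul _ _ hx, Function.comp_apply, Function.comp_apply, ihi x hx,
          hbe (Subgroup.mem_sup_left (autFun_mem _ hx)), hβe (autFun_mem _ hx)]
    exact hpow _ x hx
  · have hcW : c ∈ T ⊔ C := Subgroup.mem_sup_right hc
    have h1 := modT_trans (hiter (p ^ j) c hc) (hγC c hc)
    have h2 := map_modT hT ((mem_autGroup hW).mp (pow_mem hb (p ^ j))).1 (autFun_mem _ hcW)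
      (hγ.mem hcW) h1
    rw [inv_pow, autFun_apply_inv _ hcW] at h2
    exact h2

/-- Generated maps are carried by automorphisms of `T` in the system. -/
theorem gen_transport_inv (hS : IsPGroup p S) (hE : E.IsWeaklyNormalIn F p) {α αi : Ω → Ω}
    (hα : IsIso F T T α) (hl : ∀ x ∈ T, αi (α x) = x) {P : Subgroup Ω} {f : Ω → Ω}
    (hg : Gen E p P f) :
    ∀ P' : Subgroup Ω, (P' : Set Ω) = α '' (P : Set Ω) → Gen E p P' (α ∘ f ∘ αi) := by
  obtain ⟨hEs, hF, hinv⟩ := id hE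
  have hback : ∀ {P P' : Subgroup Ω}, P ≤ T → (P' : Set Ω) = α '' (P : Set Ω) → ∀ y ∈ P',
      ∃ x ∈ P, α x = y ∧ αi y = x := by
    intro P P' hP hP' y hy
    have : y ∈ α '' (P : Set Ω) := hP' ▸ hy
    obtain ⟨x, hx, rfl⟩ := this
    exact ⟨x, hx, rfl, hl x (hP hx)⟩
  have hle : ∀ {P P' : Subgroup Ω}, P ≤ T → (P' : Set Ω) = α '' (P : Set Ω) → P' ≤ T := by
    intro P P' hP hP' y hy
    obtain ⟨x, hx, rfl, -⟩ := hback hP hP' y hy
    exact hα.mem (hP hx)
  induction hg with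
  | @conj P s hP hs =>
    intro P' hP'
    refine (Gen.conj (s := α s) (hle hP hP') (hα.mem hs)).congr fun y hy => ?_
    obtain ⟨x, hx, rfl, hxi⟩ := hback hP hP' y hy
    simp only [Function.comp_apply, hxi]
    exact (hα.1.map_conj hs (hP hx)).symm
  | @aut P Q a hc ha hk hPQ =>
    intro P' hP'
    obtain ⟨Q', hQ'⟩ := (hα.1.mono hc.1).exists_image
    obtain ⟨k, hk⟩ := hk
    have hai := (mem_autGroup hc.1).mp ha
    obtain ⟨χ, hχ, hχe⟩ := strongInv_of_invariant hinv Q Q' Q (autFun a) α le_rfl hc.1 hai.1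
      (fun x hx => hai.mem hx) (hα.1.mono hc.1) hQ'
    have hmem : MulAut.congr hQ'.equiv a ∈ E.autGroup Q' := by
      refine autGroup_mem_of_isMap (hχ.congr fun y hy => ?_)
      obtain ⟨x, hx, rfl⟩ := hQ'.exists_preimage hy
      rw [hχe x hx, autFun_of_mem _ hy, autFun_of_mem a hx]
      exact (congr_apply_equiv hQ' a ⟨x, hx⟩).symm
    have hsub : P' ≤ Q' := fun y hy => by
      obtain ⟨x, hx, rfl, -⟩ := hback (hPQ.trans hc.1) hP' y hy
      exact hQ'.mem (hPQ hx)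
    refine (Gen.aut (a := MulAut.congr hQ'.equiv a) (centric_of_map hS hE hc hQ') hmem
      ⟨k, by rw [← map_pow, hk, map_one]⟩ hsub).congr fun y hy => ?_
    obtain ⟨x, hx, rfl, hxi⟩ := hback (hPQ.trans hc.1) hP' y hy
    simp only [Function.comp_apply, hxi]
    have h1 := congr_apply_equiv hQ' a ⟨x, hPQ hx⟩
    rw [autFun_of_mem a (hPQ hx), ← h1, autFun_of_mem _ (hsub hy)]
    congr 2
  | @comp P Q f g hf hg hm ihf ihg =>
    intro P' hP'
    obtain ⟨Q', hQ'⟩ := (hα.1.mono hg.isMap.dom_le).exists_image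
    refine ((ihf P' hP').comp (ihg Q' hQ'.2.symm) fun y hy => ?_).congr fun y hy => ?_
    · obtain ⟨x, hx, rfl, hxi⟩ := hback hf.isMap.dom_le hP' y hy
      simp only [Function.comp_apply, hxi]
      exact hQ'.mem (hm x hx)
    · obtain ⟨x, hx, rfl, hxi⟩ := hback hf.isMap.dom_le hP' y hy
      simp only [Function.comp_apply, hxi, hl _ (hg.isMap.dom_le (hm x hx))]
  | @inv P Q f g hf him hinv' ihf =>
    intro Q' hQ'
    have hiso : IsIso E P Q f := ⟨hf.isMap, him⟩
    obtain ⟨P', hP'⟩ := (hα.1.mono hf.isMap.dom_le).exists_image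
    refine Gen.inv (ihf P' hP'.2.symm) ?_ fun y hy => ?_
    · rw [hQ', ← hiso.2, ← hP'.2, Set.image_image, Set.image_image]
      exact Set.image_congr fun x hx => by
        simp only [Function.comp_apply, hl _ (hf.isMap.dom_le hx)]
    · obtain ⟨x, hx, rfl, hxi⟩ := hback hf.isMap.dom_le hP'.2.symm y hy
      simp only [Function.comp_apply, hxi, hl _ (hf.isMap.apply_mem hx), hinv' x hx]
  | @congr P f g hf he ih =>
    intro P' hP'
    refine (ih P' hP').congr fun y hy => ?_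
    obtain ⟨x, hx, rfl, hxi⟩ := hback hf.isMap.dom_le hP' y hy
    simp only [Function.comp_apply, hxi, he hx]

/-- The residual of a weakly normal subsystem is normal. -/
theorem residual_normal (hS : IsPGroup p S) (hE : E.IsWeaklyNormalIn F p) :
    (fdSystem E p (H0 E p)).IsNormalIn F p := by
  obtain ⟨hEs, hF, hinv⟩ := id hE
  have hT := hinv.2.1
  have hTS := hT.1
  haveI : Finite T := finite_of_le hTS
  have hTp := hS.to_le hTS
  have hsat := fdSystem_isSaturated hTp hEs h0_le (le_refl (H0 E p))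
  refine ⟨⟨hsat, hF, Fus93.isInvariantIn_of (fun P _ h => hinv.1 P (fdSystem_sub P h)) hT ?_ ?_⟩, ?_⟩
  · intro P f hf k hk P' hP'
    obtain ⟨ki, hki, hkl, hkr⟩ := hk.exists_inv
    obtain ⟨a, ha, hc⟩ := isMap_fdSystem.mp hf
    obtain ⟨haE, g, hg, he⟩ := hc
    obtain ⟨kb, hkb, hkbe⟩ := hk.exists_aut
    -- transport of `a`
    have hconj : ∀ a' ∈ H0 E p, kb * a' * kb⁻¹ ∈ H0 E p := by
      intro a' ha'
      induction ha' using Subgroup.closure_induction with
      | mem a' ha' =>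
        obtain ⟨ha'E, Q, hQ, hgQ⟩ := ha'
        have hkbi := (mem_autGroup hTS).mp hkb
        obtain ⟨Q', hQ'⟩ := (hkbi.1.mono hQ.1).exists_image
        have hg' := gen_transport_inv hS hE hkbi (fun x hx => autFun_inv_apply kb hx) hgQ Q' hQ'.2.symm
        have hai := (mem_autGroup le_rfl).mp ha'E
        obtain ⟨χ, hχ, hχe⟩ := invariant_inv hinv hai.1 hkbi (P' := T) hkbi.2.symm
        have hmem : kb * a' * kb⁻¹ ∈ E.autGroup T := by
          refine autGroup_mem_of_isMap (hχ.congr fun y hy => ?_)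
          conv_lhs => rw [← autFun_apply_inv kb hy]
          rw [hχe _ (autFun_mem _ hy), autFun_mul _ _ hy, Function.comp_apply,
            autFun_mul _ _ (autFun_mem _ hy), Function.comp_apply]
        refine mem_h0 hmem (centric_of_map hS hE hQ hQ') (hg'.congr fun x hx => ?_)
        have hxT := hg'.isMap.dom_le hx
        rw [autFun_mul _ _ hxT]
        simp only [Function.comp_apply]
        rw [autFun_mul _ _ (autFun_mem _ hxT)]
        rfl
      | one => simp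
      | mul x y _ _ hx hy =>
        rw [show kb * (x * y) * kb⁻¹ = kb * x * kb⁻¹ * (kb * y * kb⁻¹) by group]
        exact mul_mem hx hy
      | inv x _ hx =>
        rw [show kb * x⁻¹ * kb⁻¹ = (kb * x * kb⁻¹)⁻¹ by group]
        exact inv_mem hx
    refine ⟨autFun (kb * a * kb⁻¹) ∘ (k ∘ g ∘ ki), isMap_fdSystem.mpr ⟨kb * a * kb⁻¹, hconj a ha,
      h0_le (hconj a ha), _, gen_transport_inv hS hE hk hkl hg P' hP', fun _ _ => rfl⟩, fun x hx => ?_⟩
    have hgT : g x ∈ T := hg.isMap.apply_mem hx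
    simp only [Function.comp_apply]
    rw [hkl x (hf.dom_le hx), ← hkbe hgT, he hx, Function.comp_apply,
      autFun_mul _ _ (autFun_mem _ hgT), Function.comp_apply, autFun_inv_apply kb hgT,
      autFun_mul _ _ hgT, Function.comp_apply, hkbe (autFun_mem a hgT)]
  · intro P f hf hP
    obtain ⟨k, g, hk, hg, he⟩ := invariant_frattini hinv hf hP
    obtain ⟨α, g', hα, hg', hge⟩ := factors_all hTp hEs hg
    refine ⟨k ∘ α, g', IsIso.comp (⟨hα.1.of_isSubsystemOf hinv.1, hα.2⟩ : IsIso F T T α) hk,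
      isMap_fdSystem.mpr (fd_of_gen hg'), fun x hx => ?_⟩
    rw [he x hx, hge hx]
    rfl
  · intro α hα
    rw [autGroup_fdSystem h0_le le_rfl] at hα
    obtain ⟨β, hβ, hβe, hβc⟩ := h0_le_extTriv hS hE hα
    obtain ⟨b, hb, hbe⟩ := hβ.exists_aut
    refine ⟨b, hb, fun x => ?_, fun c hc => ?_⟩
    · rw [← autFun_coe b]
      exact ((hbe (Subgroup.mem_sup_left x.2)).trans (hβe x.2)).trans (autFun_coe α x)
    · rw [← autFun_coe b, hbe c.2]
      refine ⟨hβc _ hc, Subgroup.mem_centralizer_iff.mpr fun t ht => ?_⟩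
      have him : β '' (T : Set Ω) = (T : Set Ω) := (Set.image_congr hβe).trans (autFun_image α)
      have h1 := map_mem_centralizer hβ.1 le_sup_left him c.2 hc.2
      have h2 := (centralizerIn S T).mul_mem ((centralizerIn S T).inv_mem hc) h1
      exact Subgroup.mem_centralizer_iff.mp h2.2 t ht

end Cfsg.Agent.PrimeIndex
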