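import Cfsg.Agent.PrimeIndex.Character

/-!
# The kernel of a character contains `H0`

For a centric subgroup meeting `T` in a subgroup that is not centric in `E`, the automorphisms
trivial on that intersection and on the quotient by it give an extension to a bigger subgroup.
-/

set_option autoImplicit false

namespace Cfsg.Agent.PrimeIndex

open Cfsg Cfsg.Agent.Fusion Cfsg.Agent.Fusion.PrimeToP
open Cfsg.FusionSystem (normalizerIn centralizerIn)
open scoped Pointwise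

variable {Ω : Type*} [Group Ω] {S : Subgroup Ω} {F : FusionSystem S} {p : ℕ}
  {T : Subgroup Ω} {E : FusionSystem T} {Δ : Type*} [Group Δ] {χ : ↥(F.autGroup T) →* Δ}

/-- The automorphisms of `P` trivial on `P ⊓ T` and moving elements only by elements of `T`. -/
def sta (F : FusionSystem S) (T P : Subgroup Ω) : Subgroup (MulAut P) where
  carrier := {a | a ∈ F.autGroup P ∧ ∀ x ∈ P, x⁻¹ * autFun a x ∈ T ∧ (x ∈ T → autFun a x = x)}
  one_mem' := ⟨one_mem _, fun x hx => by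
    have h : autFun (1 : MulAut P) x = x := autFun_one hx
    rw [h]
    simp⟩
  mul_mem' {a b} ha hb := ⟨mul_mem ha.1 hb.1, fun x hx => by
    obtain ⟨hb1, hb2⟩ := hb.2 x hx
    obtain ⟨ha1, ha2⟩ := ha.2 (autFun b x) (autFun_mem b hx)
    rw [autFun_mul a b hx, Function.comp_apply]
    refine ⟨?_, fun hxT => by rw [ha2 (by rw [hb2 hxT]; exact hxT), hb2 hxT]⟩
    simpa [mul_assoc] using mul_mem hb1 ha1⟩
  inv_mem' {a} ha := ⟨inv_mem ha.1, fun x hx => by
    obtain ⟨h1, h2⟩ := ha.2 (autFun a⁻¹ x) (autFun_mem _ hx)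
    rw [autFun_apply_inv a hx] at h1 h2
    refine ⟨?_, fun hxT => ?_⟩
    · simpa using inv_mem h1
    · obtain ⟨-, h3⟩ := ha.2 x hx
      conv_lhs => rw [← h3 hxT]
      exact autFun_inv_apply a hx⟩

theorem mem_sta {P : Subgroup Ω} {a : MulAut P} :
    a ∈ sta F T P ↔ a ∈ F.autGroup P ∧ ∀ x ∈ P, x⁻¹ * autFun a x ∈ T ∧ (x ∈ T → autFun a x = x) :=
  Iff.rfl

theorem sta_congr (hT : F.StronglyClosed T) {P Q : Subgroup Ω} {σ : Ω → Ω} (hσ : IsIso F P Q σ)
    {a : MulAut P} (ha : a ∈ sta F T P) : MulAut.congr hσ.equiv a ∈ sta F T Q := by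
  refine ⟨autGroup_map_congr hσ ▸ ⟨a, ha.1, rfl⟩, fun y hy => ?_⟩
  obtain ⟨σi, hσi, hσl, -⟩ := hσ.exists_inv
  obtain ⟨x, hx, rfl⟩ := hσ.exists_preimage hy
  obtain ⟨h1, h2⟩ := ha.2 x hx
  have e : autFun (MulAut.congr hσ.equiv a) (σ x) = σ (autFun a x) := by
    rw [autFun_of_mem _ hy, autFun_of_mem a hx]
    exact congr_apply_equiv hσ a ⟨x, hx⟩
  refine ⟨?_, fun hyT => ?_⟩
  · rw [e, ← hσ.1.map_inv hx, ← hσ.1.map_mul (inv_mem hx) (autFun_mem a hx)]
    exact (stronglyClosed_iff.mp hT).2 P σ hσ.1 _ (mul_mem (inv_mem hx) (autFun_mem a hx)) h1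
  · rw [e, h2 ?_]
    have := (stronglyClosed_iff.mp hT).2 Q σi hσi.1 _ hy hyT
    rwa [hσl x hx] at this

/-- `Sta` is a normal `p`-subgroup of the automorphism group. -/
theorem sta_le_autInducedBy [Finite S] [Fact p.Prime] (hS : IsPGroup p S) (hF : F.IsSaturated p)
    (hT : F.StronglyClosed T) {P : Subgroup Ω} (hP : F.IsFullyNormalized P) :
    sta F T P ≤ autInducedBy S P := by
  haveI := finite_of_le hP.1
  haveI := finite_mulAut P
  set K := (sta F T P).subgroupOf (F.autGroup P) with hK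
  haveI : K.Normal := by
    refine ⟨fun a ha c => ?_⟩
    rw [hK, Subgroup.mem_subgroupOf] at ha ⊢
    have hc := (mem_autGroup hP.1).mp c.2
    have e : (hc.equiv : MulAut P) = (c : MulAut P) := MulEquiv.ext fun x => Subtype.ext (by
      rw [hc.equiv_apply, autFun_coe])
    have h1 := sta_congr hT hc ha
    rw [e] at h1
    exact h1
  have hKp : IsPGroup p K := by
    haveI : Finite ↥(T ⊓ P) := finite_of_le (inf_le_right.trans hP.1)
    obtain ⟨k, hk⟩ := IsPGroup.iff_card.mp (hS.to_le (inf_le_right.trans hP.1 : T ⊓ P ≤ S))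
    intro a
    refine ⟨k, ?_⟩
    have ha : ((a : F.autGroup P) : MulAut P) ∈ sta F T P := Subgroup.mem_subgroupOf.mp a.2
    set b : MulAut P := ((a : F.autGroup P) : MulAut P) with hb
    suffices h : b ^ p ^ k = 1 from Subtype.ext (Subtype.ext h)
    have hiso := ((mem_autGroup hP.1).mp ha.1).1
    have hiter : ∀ (j : ℕ), ∀ x ∈ P, autFun (b ^ j) x = x * (x⁻¹ * autFun b x) ^ j := by
      intro j
      induction j with
      | zero => intro x hx; simpa using autFun_one hx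
      | succ j ihj =>
        intro x hx
        have hu : (x⁻¹ * autFun b x) ^ j ∈ P := pow_mem (mul_mem (inv_mem hx) (autFun_mem b hx)) j
        rw [pow_succ', autFun_mul _ _ hx, Function.comp_apply, ihj x hx, hiso.map_mul hx hu,
          (ha.2 _ hu).2 (pow_mem (ha.2 x hx).1 j), pow_succ', mul_assoc, mul_inv_cancel_left]
    refine MulEquiv.ext fun x => Subtype.ext ?_
    rw [← autFun_coe, hiter _ x x.2]
    have h1 : ((x : Ω)⁻¹ * autFun b x) ^ p ^ k = 1 := by
      have hm : (x : Ω)⁻¹ * autFun b x ∈ T ⊓ P :=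
        ⟨(ha.2 x x.2).1, P.mul_mem (P.inv_mem x.2) (autFun_mem b x.2)⟩
      have := pow_card_eq_one' (G := ↥(T ⊓ P)) (x := ⟨_, hm⟩)
      rw [hk] at this
      simpa using congrArg Subtype.val this
    rw [h1, mul_one]
    rfl
  obtain ⟨U, hU⟩ := (fullyAutomized_of_fullyNormalized hS hF hP).2
  intro a ha
  have h1 : (⟨a, ha.1⟩ : F.autGroup P) ∈ (U : Subgroup (F.autGroup P)) :=
    hKp.le_sylow_of_normal U (Subgroup.mem_subgroupOf.mpr ha)
  rw [hU] at h1
  exact Subgroup.mem_subgroupOf.mp h1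

/-- `P` with the elements inducing automorphisms in `Sta`. -/
def plus (F : FusionSystem S) (T P : Subgroup Ω) : Subgroup Ω := P ⊔ kNorm S P (sta F T P)

theorem plus_le {P : Subgroup Ω} (hP : P ≤ S) : plus F T P ≤ normalizerIn S P :=
  sup_le (le_normalizerIn hP) (kNorm_le _ _)

/-- A map between fully normalized subgroups extends to `plus`. -/
theorem exists_plus_ext [Finite S] [Fact p.Prime] (hS : IsPGroup p S) (hF : F.IsSaturated p)
    (hT : F.StronglyClosed T) {P Q : Subgroup Ω} {σ : Ω → Ω}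
    (hQ : F.IsFullyNormalized Q) (hσ : IsIso F P Q σ) :
    ∃ ψ, IsMap F (plus F T P) ψ ∧ Set.EqOn ψ σ P ∧ ∀ x ∈ plus F T P, ψ x ∈ plus F T Q := by
  have hext : IsExtendable S P σ (kNorm S P (sta F T P)) := by
    refine ⟨(kNorm_le _ _).trans inf_le_left, fun g hg => ?_⟩
    obtain ⟨hgN, hc⟩ := mem_kNorm.mp hg
    exact ⟨hgN.2, (congr_autInducedBy_mem hσ hgN).mp
      (sta_le_autInducedBy hS hF hT hQ (sta_congr hT hσ hc))⟩
  obtain ⟨ψ, hψ, hψe⟩ := receptive_extend (receptive_of_fullyNormalized hS hF hQ) hσ hext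
  refine ⟨ψ, hψ, hψe, isMap_mem_sup hψ le_sup_left le_sup_right
    (fun x hx => Subgroup.mem_sup_left ?_) fun g hg => Subgroup.mem_sup_right ?_⟩
  · rw [hψe hx]
    exact hσ.mem hx
  · obtain ⟨hgN, hc⟩ := mem_kNorm.mp hg
    have him : ψ '' (P : Set Ω) = (Q : Set Ω) := (Set.image_congr hψe).trans hσ.2
    have hgN' := map_mem_normalizer hψ le_sup_left him (le_sup_right (a := P) hg) hgN.2
    refine mem_kNorm.mpr ⟨hgN', ?_⟩
    have e : conjAutHom S Q ⟨ψ g, hgN'⟩ = MulAut.congr hσ.equiv (conjAutHom S P ⟨g, hgN⟩) := by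
      refine MulEquiv.ext fun y => ?_
      obtain ⟨x, rfl⟩ := hσ.equiv.surjective y
      refine Subtype.ext ?_
      rw [congr_apply_equiv, conjAutHom_apply, conjAutHom_apply, hσ.equiv_apply, ← hψe x.2,
        ← hψe (conj_mem_of_mem_normalizer hgN.2 x.2)]
      exact (hψ.map_conj (le_sup_right (a := P) hg) (le_sup_left (b := kNorm S P (sta F T P)) x.2)).symm
    rw [e]
    exact sta_congr hT hσ hc

/-- The intersection with a strongly closed subgroup is carried to the intersection. -/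
theorem inter_iso (hT : F.StronglyClosed T) {P Q : Subgroup Ω} {σ : Ω → Ω} (hσ : IsIso F P Q σ) :
    IsIso F (T ⊓ P) (T ⊓ Q) σ := by
  obtain ⟨σi, hσi, -, hσr⟩ := hσ.exists_inv
  refine ⟨hσ.1.mono inf_le_right, Set.Subset.antisymm ?_ fun y hy => ?_⟩
  · rintro _ ⟨x, hx, rfl⟩
    exact ⟨(stronglyClosed_iff.mp hT).2 P σ hσ.1 x hx.2 hx.1, hσ.mem hx.2⟩
  · exact ⟨σi y, ⟨(stronglyClosed_iff.mp hT).2 Q σi hσi.1 y hy.2 hy.1, hσi.mem hy.2⟩, hσr y hy.2⟩

variable [Finite S] [Fact p.Prime]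

/-- For a fully normalized centric subgroup meeting `T` outside the centric subgroups of `E`,
`plus` is strictly bigger. -/
theorem lt_plus (H : CharSetup F p E χ) {P : Subgroup Ω} (hP : F.IsCentric P)
    (hPn : F.IsFullyNormalized P) (hbad : ¬ E.IsCentric (T ⊓ P)) : P < plus F T P := by
  haveI : Finite T := finite_of_le H.le
  have hTS := H.le
  have hPS := hP.1
  have hSN := stronglyClosed_le_normalizer H.closed
  set U := T ⊓ P with hUdef
  have hUS : U ≤ S := inf_le_left.trans hTS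
  obtain ⟨U₁, hUU₁, hU₁n⟩ := exists_fullyNormalized (F := F) hUS
  obtain ⟨u, hu, huU, -⟩ := exists_normalizer_map H.hS
    (fullyAutomized_of_fullyNormalized H.hS H.hF hU₁n) (receptive_of_fullyNormalized H.hS H.hF hU₁n) hUU₁
  have hPN : P ≤ normalizerIn S U := fun x hx => by
    refine ⟨hPS hx, Subgroup.mem_normalizer_iff.mpr fun z => ?_⟩
    rw [hUdef, Subgroup.mem_inf, Subgroup.mem_inf, ← Subgroup.mem_normalizer_iff.mp (hSN (hPS hx)) z,
      ← Subgroup.mem_normalizer_iff.mp (P.le_normalizer hx) z]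
  obtain ⟨P₁, hP₁⟩ := (hu.mono hPN).exists_image
  have hP₁c : F.IsCentric P₁ := PrimeToP.isCentric_of_isConj hP hP₁.isConj
  obtain rfl : T ⊓ P₁ = U₁ := (inter_iso H.closed hP₁).cod_unique huU
  have hU₁E : ¬ E.IsCentric (T ⊓ P₁) := fun h => by
    obtain ⟨ui, hui, -, -⟩ := huU.exists_inv
    exact hbad (eCentric_of_map H h hui)
  have hC : ¬ centralizerIn T (T ⊓ P₁) ≤ T ⊓ P₁ := by
    intro hle
    refine hU₁E ⟨inf_le_left, fun W hW c hc => ?_⟩
    obtain ⟨f, hf⟩ := isConj_iff.mp (isConj_symm hW)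
    have hfF : IsIso F W (T ⊓ P₁) f := ⟨hf.1.of_isSubsystemOf H.sub, hf.2⟩
    obtain ⟨f', hf', hfe⟩ := receptive_extend (receptive_of_fullyNormalized H.hS H.hF hU₁n) hfF
      (isExtendable_centralizerIn f)
    have hcS : c ∈ centralizerIn S W := ⟨hTS hc.1, hc.2⟩
    have h1 : f' c ∈ T ⊓ P₁ := hle ⟨H.mem hf' (le_sup_right (a := W) hcS) hc.1,
      (map_mem_centralizer hf' le_sup_left ((Set.image_congr hfe).trans hfF.2)
        (le_sup_right (a := W) hcS) hc.2).2⟩
    obtain ⟨w, hw, hwc⟩ := hf.exists_preimage h1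
    rw [← hfe hw] at hwc
    rwa [← hf'.injOn (le_sup_left (b := centralizerIn S W) hw) (le_sup_right (a := W) hcS) hwc]
  -- an element of `Sta` outside the inner automorphisms
  obtain ⟨a, haSta, haInn⟩ : ∃ a ∈ sta F T P₁, a ∉ Cfsg.Inn P₁ := by
    set C := centralizerIn T (T ⊓ P₁) with hCdef
    have hPC : P₁ ≤ Subgroup.normalizer (C : Set Ω) := by
      intro x hx
      have hU : x ∈ Subgroup.normalizer ((T ⊓ P₁ : Subgroup Ω) : Set Ω) := by
        refine Subgroup.mem_normalizer_iff.mpr fun z => ?_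
        rw [Subgroup.mem_inf, Subgroup.mem_inf, ← Subgroup.mem_normalizer_iff.mp (hSN (hP₁c.1 hx)) z,
          ← Subgroup.mem_normalizer_iff.mp (P₁.le_normalizer hx) z]
      refine Subgroup.mem_normalizer_iff.mpr fun z => ?_
      show z ∈ T ⊓ Subgroup.centralizer _ ↔ x * z * x⁻¹ ∈ T ⊓ Subgroup.centralizer _
      rw [Subgroup.mem_inf, Subgroup.mem_inf, ← Subgroup.mem_normalizer_iff.mp (hSN (hP₁c.1 hx)) z,
        Subgroup.mem_centralizer_iff, Subgroup.mem_centralizer_iff]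
      refine and_congr_right fun _ => ⟨fun h y hy => ?_, fun h y hy => ?_⟩
      · have h1 := conj_mem_of_mem_normalizer (Subgroup.inv_mem _ hU) hy
        have h2 := h _ h1
        calc y * (x * z * x⁻¹) = x * (x⁻¹ * y * x⁻¹⁻¹ * z) * x⁻¹ := by group
          _ = x * (z * (x⁻¹ * y * x⁻¹⁻¹)) * x⁻¹ := by rw [h2]
          _ = x * z * x⁻¹ * y := by group
      · have h1 := conj_mem_of_mem_normalizer hU hy
        have h2 := h _ h1
        calc y * z = x⁻¹ * (x * y * x⁻¹ * (x * z * x⁻¹)) * x := by group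
          _ = x⁻¹ * (x * z * x⁻¹ * (x * y * x⁻¹)) * x := by rw [h2]
          _ = z * y := by group
    have hRS : P₁ ⊔ C ≤ S := sup_le hP₁c.1 (inf_le_left.trans hTS)
    haveI := finite_of_le hRS
    have hlt : P₁ < P₁ ⊔ C := lt_of_le_of_ne le_sup_left fun h => hC fun c hc =>
      ⟨hc.1, h ▸ (le_sup_right : C ≤ P₁ ⊔ C) hc⟩
    obtain ⟨g, hg, hgP⟩ := SetLike.exists_of_lt (lt_normalizerIn (H.hS.to_le hRS) hlt)
    obtain ⟨x, hx, c, hc, rfl⟩ : g ∈ (P₁ : Set Ω) * (C : Set Ω) := by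
      rw [← Subgroup.coe_mul_of_left_le_normalizer_right P₁ C hPC]
      exact hg.1
    have hcN : c ∈ normalizerIn S P₁ := by
      refine ⟨hTS hc.1, ?_⟩
      have := mul_mem (inv_mem (P₁.le_normalizer hx)) hg.2
      rwa [inv_mul_cancel_left] at this
    refine ⟨conjAutHom S P₁ ⟨c, hcN⟩, ⟨autInducedBy_le_autGroup hP₁c.1
      (by rw [← range_conjAutHom]; exact ⟨_, rfl⟩), fun y hy => ?_⟩, fun h => ?_⟩
    · rw [autFun_of_mem _ hy, conjAutHom_apply]
      refine ⟨?_, fun hyT => ?_⟩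
      · rw [← mul_assoc, ← mul_assoc]
        refine mul_mem ?_ (inv_mem hc.1)
        have := conj_mem_of_mem_normalizer (Subgroup.inv_mem _ (hSN (hP₁c.1 hy))) hc.1
        simpa [mul_assoc] using this
      · rw [← Subgroup.mem_centralizer_iff.mp hc.2 y ⟨hyT, hy⟩]
        group
    · obtain ⟨y, hy, hyc⟩ := mem_inn.mp h
      have hyc' : y⁻¹ * c ∈ P₁ := hP₁c.2 P₁ (isConj_refl hP₁c.1) ⟨S.mul_mem (S.inv_mem (hP₁c.1 hy)) hcN.1,
        Subgroup.mem_centralizer_iff.mpr fun z hz => by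
          have h1 := hyc ⟨z, hz⟩
          rw [conjAutHom_apply] at h1
          simp only at h1
          calc z * (y⁻¹ * c) = y⁻¹ * (y * z * y⁻¹) * c := by group
            _ = y⁻¹ * (c * z * c⁻¹) * c := by rw [h1]
            _ = y⁻¹ * c * z := by group⟩
      have := mul_mem hy hyc'
      rw [mul_inv_cancel_left] at this
      exact hgP (mul_mem hx this)
  -- transport to `P`
  obtain ⟨ui, hui, hul, hur⟩ := hP₁.exists_inv
  have haP := sta_congr H.closed hui haSta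
  obtain ⟨g, hg, hgc⟩ := mem_autInducedBy.mp (sta_le_autInducedBy H.hS H.hF H.closed hPn haP)
  have hgN : g ∈ normalizerIn S P := ⟨hg, mem_normalizer_of_induces hgc⟩
  refine lt_of_le_of_ne le_sup_left fun h => haInn ?_
  have hgP : g ∈ P := h.ge (Subgroup.mem_sup_right (mem_kNorm.mpr ⟨hgN, by
    rwa [show conjAutHom S P ⟨g, hgN⟩ = MulAut.congr hui.equiv a from
      MulEquiv.ext fun z => Subtype.ext (hgc z).symm]⟩))
  obtain ⟨z, hz, rfl⟩ := hui.exists_preimage hgP
  refine mem_inn.mpr ⟨z, hz, fun x => hui.1.injOn (Subtype.mem _)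
    (mul_mem (mul_mem hz x.2) (inv_mem hz)) ?_⟩
  rw [hui.1.map_conj hz x.2, ← congr_apply_equiv hui, ← hui.equiv_apply x]
  exact hgc _

/-- The value of a map from its class. -/
def KV (hT : F.StronglyClosed T) (χ : ↥(F.autGroup T) →* Δ) (p : ℕ) (P : Subgroup Ω) (f : Ω → Ω)
    (v : Δ) : Prop :=
  ∃ b, ∃ hb : b ∈ F.autGroup S, Cls F p P f b ∧ χ (res hT ⟨b, hb⟩) = v

omit [Fact p.Prime] in
theorem KV.congr {hT : F.StronglyClosed T} {P : Subgroup Ω} {f f' : Ω → Ω} {v : Δ}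
    (h : KV hT χ p P f v) (he : Set.EqOn f f' P) : KV hT χ p P f' v :=
  let ⟨b, hb, hc, hv⟩ := h; ⟨b, hb, hc.congr he, hv⟩

omit [Fact p.Prime] in
theorem KV.mono {hT : F.StronglyClosed T} {P P' : Subgroup Ω} {f : Ω → Ω} {v : Δ}
    (h : KV hT χ p P f v) (hle : P' ≤ P) : KV hT χ p P' f v :=
  let ⟨b, hb, hc, hv⟩ := h; ⟨b, hb, hc.mono hle, hv⟩

omit [Fact p.Prime] in
theorem kv_of_gen {hT : F.StronglyClosed T} {P : Subgroup Ω} {f : Ω → Ω} (h : Gen F p P f) :
    KV hT χ p P f 1 :=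
  ⟨1, one_mem _, cls_of_gen h, (congrArg χ (map_one (res hT))).trans (map_one χ)⟩

omit [Fact p.Prime] in
theorem KV.comp {hT : F.StronglyClosed T} {P Q : Subgroup Ω} {f f' : Ω → Ω} {v w : Δ}
    (h : KV hT χ p P f v) (h' : KV hT χ p Q f' w) (hm : ∀ x ∈ P, f x ∈ Q) :
    KV hT χ p P (f' ∘ f) (w * v) := by
  obtain ⟨b, hb, hc, rfl⟩ := h
  obtain ⟨c, hc', hcc, rfl⟩ := h'
  exact ⟨c * b, mul_mem hc' hb, hc.comp hcc hm, (congrArg χ (map_mul (res hT) ⟨c, hc'⟩ ⟨b, hb⟩)).trans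
    (map_mul χ _ _)⟩

theorem kv_exists {hT : F.StronglyClosed T} (hS : IsPGroup p S) (hF : F.IsSaturated p)
    {P : Subgroup Ω} {f : Ω → Ω} (hf : IsMap F P f) : ∃ v, KV hT χ p P f v :=
  let ⟨b, hb⟩ := cls_exists hS hF hf
  ⟨_, b, hb.1, hb, rfl⟩

theorem exists_conj_of_eqOn (hS : IsPGroup p S) (hF : F.IsSaturated p) {U R : Subgroup Ω}
    (hU : F.IsCentric U) (hUR : U ≤ R) {f g : Ω → Ω} (hf : IsMap F R f) (hg : IsMap F R g)
    (he : Set.EqOn g f U) : ∃ z ∈ R, Set.EqOn g (f ∘ fun x => z * x * z⁻¹) R := by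
  obtain ⟨φ, hφ, hφf⟩ := hf
  obtain ⟨γ, hγ, hγg⟩ := hg
  obtain ⟨z, -, -, hz⟩ := Fusion92.agree_on_centric hS F hF hU hUR hφ hγ fun x hx => by
    rw [hφf, hγg]; exact he hx
  refine ⟨z, z.2, fun x hx => ?_⟩
  have := hz ⟨x, hx⟩
  rw [hγg, hφf] at this
  exact this

/-- The value of a map given by an extension to a bigger subgroup. -/
def Val (hT : F.StronglyClosed T) (χ : ↥(F.autGroup T) →* Δ) (p : ℕ) (P : Subgroup Ω) (f : Ω → Ω)
    (v : Δ) : Prop :=
  ∃ M ψ, P < M ∧ M ≤ normalizerIn S P ∧ Set.EqOn ψ f P ∧ KV hT χ p M ψ v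

omit [Fact p.Prime] in
theorem KV.isMap {hT : F.StronglyClosed T} {P : Subgroup Ω} {f : Ω → Ω} {v : Δ}
    (h : KV hT χ p P f v) : IsMap F P f :=
  let ⟨_, _, hc, _⟩ := h; hc.isMap

/-- A generated automorphism of a centric subgroup of `S` lies in the kernel. -/
theorem res_gen_eq_one (H : CharSetup F p E χ) :
    ∀ (n : ℕ) (P : Subgroup Ω), Nat.card S - Nat.card P = n → F.IsCentric P →
      ∀ a : ↥(F.autGroup S), Gen F p P (autFun (a : MulAut S)) → χ (res H.closed a) = 1 := by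
  intro n
  induction n using Nat.strong_induction_on with
  | _ n ih =>
  intro P hn hP a ha
  by_cases hgood : E.IsCentric (T ⊓ P)
  · exact XV.unique H hgood
      ((xv_aut inf_le_left (res H.closed a)).congr fun x hx => autFun_res H.closed a hx.1)
      (xv_gen H ha _ inf_le_right inf_le_left hgood)
  have hS := H.hS
  have hF := H.hF
  haveI := finite_of_le hP.1
  -- uniqueness of values on bigger centric subgroups
  have hKU : ∀ {P' : Subgroup Ω}, F.IsCentric P' → Nat.card P < Nat.card P' →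
      ∀ {f : Ω → Ω} {v w : Δ}, KV H.closed χ p P' f v → KV H.closed χ p P' f w → v = w := by
    intro P' hP' hcard f v w hv hw
    obtain ⟨b, hb, ⟨-, g, hg, he⟩, rfl⟩ := hv
    obtain ⟨c, hc, ⟨-, g', hg', he'⟩, rfl⟩ := hw
    obtain ⟨R, hR⟩ := hg.isMap.exists_image
    obtain ⟨gi, hgi, hgl, -⟩ := hR.exists_inv
    have h2 : Nat.card R ≤ Nat.card S := Subgroup.card_le_of_le hR.cod_le
    have h3 := ih _ (by rw [← hn]; have := hR.card_eq; omega) R rfl
      (PrimeToP.isCentric_of_isConj hP' hR.isConj) (⟨c, hc⟩⁻¹ * ⟨b, hb⟩)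
      (((Gen.inv hg hR.2 hgl).comp hg' fun y hy => hgi.mem hy).congr fun y hy => by
        obtain ⟨x, hx, rfl⟩ := hR.exists_preimage hy
        have hgx := hg.isMap.apply_mem hx
        have h1 := (he hx).symm.trans (he' hx)
        simp only [Function.comp_apply] at h1 ⊢
        rw [hgl x hx, Subgroup.coe_mul, Subgroup.coe_inv, autFun_mul _ _ hgx, Function.comp_apply, h1,
          autFun_inv_apply c (hg'.isMap.apply_mem hx)])
    rw [map_mul, map_mul, map_inv, map_inv] at h3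
    exact (inv_mul_eq_one.mp h3).symm
  have hclass : ∀ {Q : Subgroup Ω}, F.IsConj P Q → F.IsCentric Q ∧ ¬ E.IsCentric (T ⊓ Q) := by
    intro Q hQ
    refine ⟨PrimeToP.isCentric_of_isConj hP hQ, fun h => hgood ?_⟩
    obtain ⟨σ, hσ⟩ := isConj_iff.mp (isConj_symm hQ)
    exact eCentric_of_map H h (inter_iso H.closed hσ)
  have hbig : ∀ {Q M : Subgroup Ω}, F.IsConj P Q → Q < M → M ≤ S →
      F.IsCentric M ∧ Nat.card P < Nat.card M := by
    intro Q M hQ hlt hM
    haveI := finite_of_le hM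
    refine ⟨Fus93.isCentric_of_le (hclass hQ).1 hlt.le hM, ?_⟩
    rw [isConj_card hQ]
    exact lt_of_le_of_ne (Subgroup.card_le_of_le hlt.le) fun h =>
      hlt.ne (Subgroup.eq_of_le_of_card_ge hlt.le h.ge)
  -- the value of an isomorphism between fully normalized members of the class is unique
  have huniq : ∀ {Q Q' : Subgroup Ω} {f : Ω → Ω} {v w : Δ}, F.IsConj P Q → IsIso F Q Q' f →
      F.IsFullyNormalized Q' → Val H.closed χ p Q f v → Val H.closed χ p Q f w → v = w := by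
    intro Q Q' f v w hQ hf hQ' hv hw
    obtain ⟨M₁, ψ₁, hlt₁, hN₁, he₁, hk₁⟩ := hv
    obtain ⟨M₂, ψ₂, hlt₂, hN₂, he₂, hk₂⟩ := hw
    obtain ⟨φ, -, hφf⟩ := id hf.1
    have hext : ∀ {M : Subgroup Ω} {ψ : Ω → Ω}, Q ≤ M → M ≤ normalizerIn S Q → IsMap F M ψ →
        Set.EqOn ψ f Q → M ≤ FusionSystem.extender S Q φ := fun {M ψ} hQM hMN hψ he =>
      le_extender_of_isExtendable hφf ⟨hMN.trans inf_le_left, fun g hg =>
        ⟨(hMN hg).2, ψ g, hψ.apply_mem hg, fun x hx => by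
          rw [← he hx, ← he (conj_mem_of_mem_normalizer (hMN hg).2 hx)]
          exact hψ.map_conj hg (hQM hx)⟩⟩
    have hle := sup_le (hext hlt₁.le hN₁ hk₁.isMap he₁) (hext hlt₂.le hN₂ hk₂.isMap he₂)
    obtain ⟨ψ, hψ, hψe⟩ := receptive_extend (receptive_of_fullyNormalized hS hF hQ') hf
      ⟨hle.trans (isExtendable_extender hφf).1, fun g hg => (isExtendable_extender hφf).2 g (hle hg)⟩
    obtain ⟨v₀, hv₀⟩ := kv_exists (hT := H.closed) (χ := χ) hS hF hψ
    have key : ∀ {M : Subgroup Ω} {ψ' : Ω → Ω} {u : Δ}, Q < M → M ≤ normalizerIn S Q →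
        Set.EqOn ψ' f Q → KV H.closed χ p M ψ' u → M ≤ Q ⊔ (M₁ ⊔ M₂) → u = v₀ := by
      intro M ψ' u hlt hMN he hk hM
      obtain ⟨z, hz, hze⟩ := exists_conj_of_eqOn hS hF (hclass hQ).1 hlt.le (hψ.mono hM) hk.isMap
        (he.trans hψe.symm)
      have h1 : KV H.closed χ p M ψ' (v₀ * 1) :=
        ((kv_of_gen (Gen.conj (hMN.trans inf_le_left) (inf_le_left (a := S) (hMN hz)))).comp
          (hv₀.mono hM) fun x hx => M.mul_mem (M.mul_mem hz hx) (M.inv_mem hz)).congr hze.symm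
      rw [mul_one] at h1
      exact hKU (hbig hQ hlt (hMN.trans inf_le_left)).1 (hbig hQ hlt (hMN.trans inf_le_left)).2 hk h1
    exact (key hlt₁ hN₁ he₁ hk₁ (le_sup_left.trans le_sup_right)).trans
      (key hlt₂ hN₂ he₂ hk₂ (le_sup_right.trans le_sup_right)).symm
  have hplus : ∀ {Q : Subgroup Ω}, F.IsConj P Q → F.IsFullyNormalized Q → Q < plus F T Q :=
    fun hQ hQn => lt_plus H (hclass hQ).1 hQn (hclass hQ).2
  -- values multiply
  have hmul : ∀ {Q Q' Q'' : Subgroup Ω} {f f' : Ω → Ω} {v w : Δ}, F.IsConj P Q →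
      F.IsFullyNormalized Q → IsIso F Q Q' f → F.IsFullyNormalized Q' → IsIso F Q' Q'' f' →
      F.IsFullyNormalized Q'' → Val H.closed χ p Q f v → Val H.closed χ p Q' f' w →
      Val H.closed χ p Q (f' ∘ f) (w * v) := by
    intro Q Q' Q'' f f' v w hQ hQn hf hQ'n hf' hQ''n hv hw
    have hQ' := isConj_trans hQ hf.isConj
    obtain ⟨ψ, hψ, hψe, hψm⟩ := exists_plus_ext hS hF H.closed hQ'n hf
    obtain ⟨ψ', hψ', hψ'e, -⟩ := exists_plus_ext hS hF H.closed hQ''n hf'
    obtain ⟨v₁, hv₁⟩ := kv_exists (hT := H.closed) (χ := χ) hS hF hψ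
    obtain ⟨w₁, hw₁⟩ := kv_exists (hT := H.closed) (χ := χ) hS hF hψ'
    obtain rfl := huniq hQ hf hQ'n hv ⟨_, ψ, hplus hQ hQn, plus_le hQn.1, hψe, hv₁⟩
    obtain rfl := huniq hQ' hf' hQ''n hw ⟨_, ψ', hplus hQ' hQ'n, plus_le hQ'n.1, hψ'e, hw₁⟩
    exact ⟨_, ψ' ∘ ψ, hplus hQ hQn, plus_le hQn.1, fun x hx => by
      rw [Function.comp_apply, hψe hx, hψ'e (hf.mem hx), Function.comp_apply], hv₁.comp hw₁ hψm⟩
  -- automorphisms of `p`-power order
  have hpaut : ∀ {Q : Subgroup Ω} (c : MulAut Q), F.IsConj P Q → F.IsFullyNormalized Q →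
      c ∈ F.autGroup Q → (∃ k, c ^ p ^ k = 1) → Val H.closed χ p Q (autFun c) 1 := by
    intro Q c hQ hQn hc ⟨k, hk⟩
    have hci := (mem_autGroup hQn.1).mp hc
    obtain ⟨ψ, hψ, hψe, -⟩ := exists_plus_ext hS hF H.closed hQn hci
    obtain ⟨v, hv⟩ := kv_exists (hT := H.closed) (χ := χ) hS hF hψ
    have hV : Val H.closed χ p Q (autFun c) v := ⟨_, ψ, hplus hQ hQn, plus_le hQn.1, hψe, hv⟩
    have hid : Val H.closed χ p Q id 1 := ⟨_, id, hplus hQ hQn, plus_le hQn.1, fun _ _ => rfl,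
      kv_of_gen (gen_id ((plus_le hQn.1).trans inf_le_left))⟩
    have hpow : ∀ j : ℕ, Val H.closed χ p Q (autFun (c ^ j)) (v ^ j) := by
      intro j
      induction j with
      | zero =>
        obtain ⟨M, θ, h1, h2, h3, h4⟩ := hid
        exact ⟨M, θ, h1, h2, by rw [pow_zero]; exact h3.trans autFun_one.symm, by rwa [pow_zero]⟩
      | succ j ihj =>
        have hcj := (mem_autGroup hQn.1).mp (pow_mem hc j)
        obtain ⟨M, θ, h1, h2, h3, h4⟩ := hmul hQ hQn hci hQn hcj hQn hV ihj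
        exact ⟨M, θ, h1, h2, by rw [pow_succ]; exact h3.trans (autFun_mul _ _).symm, by rwa [pow_succ]⟩
    have h1 : v ^ p ^ k = 1 := by
      have h := hpow (p ^ k)
      rw [hk] at h
      obtain ⟨M, θ, h1, h2, h3, h4⟩ := h
      exact huniq hQ (isIso_id hQn.1) hQn ⟨M, θ, h1, h2, h3.trans autFun_one, h4⟩ hid
    exact eq_one_of_pow_p H.cop h1 ▸ hV
  -- generated maps have trivial value after translation
  let One : Subgroup Ω → (Ω → Ω) → Prop := fun R f => IsMap F R f ∧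
    ∀ R' R₀ g g' gi, IsIso F R R' f → Tr F p R g → IsIso F R R₀ g → Tr F p R' g' →
      IsIso F R₀ R gi → (∀ x ∈ R, gi (g x) = x) → Val H.closed χ p R₀ (g' ∘ f ∘ gi) 1
  have hbase : ∀ (X R : Subgroup Ω) (σ : Ω → Ω), Gen F p X σ → F.IsConj P R → R < X → One R σ := by
    intro X R σ hσ hR hlt
    refine ⟨hσ.isMap.mono hlt.le, fun R' R₀ g g' gi hσR hg hgR hg' hgi hgl => ?_⟩
    have hXS := hσ.isMap.dom_le
    haveI := finite_of_le hXS
    set Y := normalizerIn X R with hY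
    have hRY : R < Y := lt_normalizerIn (hS.to_le hXS) hlt
    have hYN : Y ≤ normalizerIn S R := fun y hy => ⟨hXS hy.1, hy.2⟩
    haveI := finite_of_le (hYN.trans (normalizerIn_le S R))
    obtain ⟨M, hgM⟩ := (hg.1.isMap.mono hYN).exists_image
    obtain ⟨gj, hgj, hgjl, -⟩ := hgM.exists_inv
    have hR₀M : R₀ < M := by
      refine lt_of_le_of_ne (fun y hy => ?_) fun he => hRY.ne (Subgroup.eq_of_le_of_card_ge hRY.le ?_)
      · obtain ⟨z, hz, rfl⟩ := hgR.exists_preimage hy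
        exact hgM.mem (hRY.le hz)
      · rw [hgM.card_eq, ← he, ← hgR.card_eq]
    have hMN : M ≤ normalizerIn S R₀ := fun y hy => by
      obtain ⟨z, hz, rfl⟩ := hgM.exists_preimage hy
      exact map_mem_normalizer hgM.1 hRY.le hgR.2 hz hz.2
    refine ⟨M, g' ∘ σ ∘ gj, hR₀M, hMN, fun y hy => ?_, kv_of_gen
      (((Gen.inv (hg.1.mono hYN) hgM.2 hgjl).comp (hσ.mono inf_le_left) fun y hy => hgj.mem hy).comp
        hg'.1 fun y hy => map_mem_normalizer (hσ.isMap.mono inf_le_left) hRY.le hσR.2 (hgj.mem hy)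
          (hgj.mem hy).2)⟩
    obtain ⟨z, hz, rfl⟩ := hgR.exists_preimage hy
    simp only [Function.comp_apply]
    rw [hgl z hz, hgjl z (hRY.le hz)]
  have hone : ∀ {X : Subgroup Ω} {f : Ω → Ω}, Gen F p X f → ∀ R ≤ X, F.IsConj P R → One R f := by
    intro X f hX
    induction hX with
    | @conj Q s hQ hs =>
      intro R hR hRc
      refine hbase S R _ (Gen.conj le_rfl hs) hRc (lt_of_le_of_ne (hR.trans hQ) fun h => ?_)
      subst h
      have hb := (hclass hRc).2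
      rw [inf_eq_left.mpr H.le] at hb
      haveI : Finite T := finite_of_le H.le
      exact hb isCentric_self
    | @aut P' Q c hQ hc hk hP'Q =>
      intro R hR hRc
      rcases (hR.trans hP'Q).eq_or_lt with rfl | hlt
      · have hci := (mem_autGroup hQ.1).mp hc
        refine ⟨hci.1, fun R' R₀ g g' gi hcR hg hgR hg' hgi hgl => ?_⟩
        obtain rfl := hci.cod_unique hcR
        obtain ⟨R₂, hg'R, hR₂n⟩ := id hg'.2
        have hR₀c := isConj_trans hRc hgR.isConj
        have hR₀n := isFullyNormalized_of_tr hg hgR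
        have hd := hpaut (MulAut.congr hgR.equiv c) hR₀c hR₀n (autGroup_map_congr hgR ▸ ⟨c, hc, rfl⟩)
          (by obtain ⟨k, hk⟩ := hk; exact ⟨k, by rw [← map_pow, hk, map_one]⟩)
        have hswap : Val H.closed χ p R₀ (g' ∘ gi) 1 := by
          obtain ⟨N, hgN⟩ := hg.1.isMap.exists_image
          obtain ⟨gj, hgj, hgjl, -⟩ := hgN.exists_inv
          haveI : Finite N := finite_of_le hgN.cod_le
          have hRN : R < normalizerIn S R := by
            refine lt_normalizerIn hS (lt_of_le_of_ne hQ.1 fun h => ?_)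
            subst h
            have hb := (hclass hRc).2
            rw [inf_eq_left.mpr H.le] at hb
            haveI : Finite T := finite_of_le H.le
            exact hb isCentric_self
          haveI := finite_of_le (normalizerIn_le S R)
          refine ⟨N, g' ∘ gj, lt_of_le_of_ne (fun y hy => ?_) fun he =>
              hRN.ne (Subgroup.eq_of_le_of_card_ge hRN.le (by rw [hgN.card_eq, ← he, ← hgR.card_eq])),
            fun y hy => ?_, fun y hy => ?_, kv_of_gen ((Gen.inv hg.1 hgN.2 hgjl).comp hg'.1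
              fun y hy => hgj.mem hy)⟩
          · obtain ⟨z, hz, rfl⟩ := hgR.exists_preimage hy
            exact hgN.mem (le_normalizerIn hQ.1 hz)
          · obtain ⟨z, hz, rfl⟩ := hgN.exists_preimage hy
            exact map_mem_normalizer hgN.1 (le_normalizerIn hQ.1) hgR.2 hz hz.2
          · obtain ⟨z, hz, rfl⟩ := hgR.exists_preimage hy
            simp only [Function.comp_apply]
            rw [hgl z hz, hgjl z (le_normalizerIn hQ.1 hz)]
        have hdi : IsIso F R₀ R₀ (autFun (MulAut.congr hgR.equiv c)) :=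
          (mem_autGroup hR₀n.1).mp (autGroup_map_congr hgR ▸ ⟨c, hc, rfl⟩)
        obtain ⟨M, θ, h1, h2, h3, h4⟩ := hmul hR₀c hR₀n hdi hR₀n (hgi.comp hg'R) hR₂n hd hswap
        refine ⟨M, θ, h1, h2, h3.trans fun y hy => ?_, by rwa [mul_one] at h4⟩
        obtain ⟨z, hz, rfl⟩ := hgR.exists_preimage hy
        simp only [Function.comp_apply]
        have e : autFun (MulAut.congr hgR.equiv c) (g z) = g (autFun c z) := by
          rw [autFun_of_mem _ hy, autFun_of_mem c hz]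
          exact congr_apply_equiv hgR c ⟨z, hz⟩
        rw [e, hgl _ (autFun_mem c hz), hgl z hz]
      · exact hbase Q R _ (Gen.aut hQ hc hk le_rfl) hRc hlt
    | @comp P' Q u w hu hw hm ihu ihw =>
      intro R hR hRc
      obtain ⟨R', hR'⟩ := (hu.isMap.mono hR).exists_image
      have hR'Q : R' ≤ Q := fun y hy => by
        obtain ⟨z, hz, rfl⟩ := hR'.exists_preimage hy
        exact hm z (hR hz)
      refine ⟨hR'.comp_map (hw.isMap.mono hR'Q), fun R'' R₀ g g'' gi h1 hg hgR hg'' hgi hgl => ?_⟩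
      obtain ⟨g', R₁, hg', hg'R, hR₁n⟩ := exists_tr hS hF hR'.cod_le
      obtain ⟨g'i, hg'i, hg'l, -⟩ := hg'R.exists_inv
      obtain ⟨R₂, hg''R, hR₂n⟩ := id hg''.2
      have hiso : IsIso F R' R'' w := ⟨hw.isMap.mono hR'Q, by rw [← hR'.2, ← Set.image_comp]; exact h1.2⟩
      obtain ⟨M, θ, k1, k2, k3, k4⟩ := hmul (isConj_trans hRc hgR.isConj) (isFullyNormalized_of_tr hg hgR)
        ((hgi.comp hR').comp hg'R) hR₁n ((hg'i.comp hiso).comp hg''R) hR₂n
        ((ihu R hR hRc).2 R' R₀ g g' gi hR' hg hgR hg' hgi hgl)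
        ((ihw R' hR'Q (isConj_trans hRc hR'.isConj)).2 R'' R₁ g' g'' g'i hiso hg' hg'R hg'' hg'i hg'l)
      refine ⟨M, θ, k1, k2, k3.trans fun y hy => ?_, by rwa [mul_one] at k4⟩
      simp only [Function.comp_apply]
      rw [hg'l _ (hR'.mem (hgi.mem hy))]
    | @inv P' Q u w hu him hl ihu =>
      intro R hR hRc
      have hi : IsIso F P' Q u := ⟨hu.isMap, him⟩
      obtain ⟨k, hk, hkl, -⟩ := hi.exists_inv
      have hwi : IsIso F Q P' w := hk.congr fun y hy => by
        obtain ⟨z, hz, rfl⟩ := hi.exists_preimage hy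
        rw [hkl z hz, hl z hz]
      refine ⟨hwi.1.mono hR, fun R' R₀ g g' gi hwR hg hgR hg' hgi hgl => ?_⟩
      have hR'P : R' ≤ P' := fun y hy => by
        obtain ⟨z, hz, rfl⟩ := hwR.exists_preimage hy
        exact hwi.mem (hR hz)
      have hwu : ∀ y ∈ R, u (w y) = y := fun y hy => by
        obtain ⟨z, hz, rfl⟩ := hi.exists_preimage (hR hy)
        rw [hl z hz]
      have huR : IsIso F R' R u := by
        refine ⟨hu.isMap.mono hR'P, ?_⟩
        rw [← hwR.2, Set.image_image]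
        exact (Set.image_congr hwu).trans (Set.image_id' _)
      obtain ⟨R₁, hg'R, hR₁n⟩ := id hg'.2
      obtain ⟨g'i, hg'i, hg'l, -⟩ := hg'R.exists_inv
      have hR₀c := isConj_trans hRc hgR.isConj
      have hR₀n := isFullyNormalized_of_tr hg hgR
      have hθ := (hgi.comp hwR).comp hg'R
      obtain ⟨v, hv⟩ : ∃ v, Val H.closed χ p R₀ (g' ∘ w ∘ gi) v := by
        obtain ⟨ψ, hψ, hψe, -⟩ := exists_plus_ext hS hF H.closed hR₁n hθ
        obtain ⟨v, hv⟩ := kv_exists (hT := H.closed) (χ := χ) hS hF hψ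
        exact ⟨v, _, ψ, hplus hR₀c hR₀n, plus_le hR₀n.1, hψe, hv⟩
      have hback := (ihu R' hR'P (isConj_trans hRc hwR.isConj)).2 R R₁ g' g g'i huR hg' hg'R hg hg'i hg'l
      obtain ⟨M, θ, k1, k2, k3, k4⟩ := hmul hR₀c hR₀n hθ hR₁n ((hg'i.comp huR).comp hgR) hR₀n hv hback
      have hid : Set.EqOn θ id R₀ := k3.trans fun y hy => by
        obtain ⟨z, hz, rfl⟩ := hgR.exists_preimage hy
        simp only [Function.comp_apply]
        rw [hgl z hz, hg'l _ (hwR.mem hz), hwu z hz]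
        rfl
      have h1 := huniq hR₀c (isIso_id hR₀n.1) hR₀n
        (⟨M, θ, k1, k2, hid, k4⟩ : Val H.closed χ p R₀ id (1 * v))
        ⟨_, id, hplus hR₀c hR₀n, plus_le hR₀n.1, fun _ _ => rfl,
          kv_of_gen (gen_id ((plus_le hR₀n.1).trans inf_le_left))⟩
      rw [one_mul] at h1
      exact h1 ▸ hv
    | @congr P' u w _ he ihu =>
      intro R hR hRc
      obtain ⟨h1, h2⟩ := ihu R hR hRc
      refine ⟨h1.congr (he.mono hR), fun R' R₀ g g' gi hwR hg hgR hg' hgi hgl => ?_⟩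
      obtain ⟨M, θ, k1, k2, k3, k4⟩ := h2 R' R₀ g g' gi (hwR.congr (he.mono hR).symm) hg hgR hg' hgi hgl
      refine ⟨M, θ, k1, k2, k3.trans fun y hy => ?_, k4⟩
      simp only [Function.comp_apply]
      rw [he (hR (hgi.mem hy))]
  -- conclusion
  have hPS : P < S := by
    refine lt_of_le_of_ne hP.1 fun h => hgood ?_
    haveI : Finite T := finite_of_le H.le
    rw [h, inf_eq_left.mpr H.le]
    exact isCentric_self
  have haS := (mem_autGroup le_rfl).mp a.2
  obtain ⟨g, R₀, hg, hgR, hR₀n⟩ := exists_tr hS hF hP.1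
  obtain ⟨gi, hgi, hgl, -⟩ := hgR.exists_inv
  obtain ⟨P', haP⟩ := (haS.1.mono hP.1).exists_image
  obtain ⟨g', R₁, hg', hg'R, hR₁n⟩ := exists_tr hS hF haP.cod_le
  have h1 := (hone ha P le_rfl (isConj_refl hP.1)).2 P' R₀ g g' gi haP hg hgR hg' hgi hgl
  obtain ⟨N, hgN⟩ := hg.1.isMap.exists_image
  obtain ⟨gj, hgj, hgjl, -⟩ := hgN.exists_inv
  haveI := finite_of_le (normalizerIn_le S P)
  have hPN : P < normalizerIn S P := lt_normalizerIn hS hPS
  have h2 : Val H.closed χ p R₀ (g' ∘ autFun (a : MulAut S) ∘ gi) (χ (res H.closed a)) := by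
    refine ⟨N, g' ∘ autFun (a : MulAut S) ∘ gj, lt_of_le_of_ne (fun y hy => ?_) fun he =>
        hPN.ne (Subgroup.eq_of_le_of_card_ge hPN.le (by rw [hgN.card_eq, ← he, ← hgR.card_eq])),
      fun y hy => ?_, fun y hy => ?_, ?_⟩
    · obtain ⟨z, hz, rfl⟩ := hgR.exists_preimage hy
      exact hgN.mem (hPN.le hz)
    · obtain ⟨z, hz, rfl⟩ := hgN.exists_preimage hy
      exact map_mem_normalizer hgN.1 hPN.le hgR.2 hz hz.2
    · obtain ⟨z, hz, rfl⟩ := hgR.exists_preimage hy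
      simp only [Function.comp_apply]
      rw [hgl z hz, hgjl z (hPN.le hz)]
    · have hka : KV H.closed χ p S (autFun (a : MulAut S)) (χ (res H.closed a)) :=
        ⟨_, a.2, cls_aut le_rfl a.2, rfl⟩
      have := ((kv_of_gen (Gen.inv hg.1 hgN.2 hgjl)).comp (hka.mono inf_le_left) fun y hy => hgj.mem hy).comp
        (kv_of_gen hg'.1) fun y hy => map_mem_normalizer (haS.1.mono inf_le_left) hPN.le haP.2 (hgj.mem hy)
          (hgj.mem hy).2
      rwa [one_mul, mul_one] at this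
  exact (huniq (hgR.isConj) ((hgi.comp haP).comp hg'R) hR₁n h1 h2).symm

theorem h0_le_charD (H : CharSetup F p E χ) : H0 F p ≤ charD H.closed χ := by
  refine (Subgroup.closure_le _).mpr ?_
  rintro a ⟨ha, P, hP, hg⟩
  exact mem_charD.mpr ⟨ha, res_gen_eq_one H _ P rfl hP ⟨a, ha⟩ hg⟩

end Cfsg.Agent.PrimeIndex
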