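import Cfsg.Agent.PrimeIndex.Saturation
import Cfsg.Agent.Lib.Fusion.Invariant
import Cfsg.Agent.Lib.Fusion.Normal

/-!
# A character of `Aut_F(T)` of order prime to `p` trivial on `Aut_E(T)`

It gives a value to every map on a centric subgroup of `E`.
-/

set_option autoImplicit false

namespace Cfsg.Agent.PrimeIndex

open Cfsg Cfsg.Agent.Fusion Cfsg.Agent.Fusion.PrimeToP
open Cfsg.FusionSystem (normalizerIn centralizerIn)

variable {Ω : Type*} [Group Ω] {S : Subgroup Ω} {F : FusionSystem S} {p : ℕ}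
  {T : Subgroup Ω} {E : FusionSystem T} {Δ : Type*} [Group Δ]

/-- An element of `p`-power order of a group of order prime to `p` is trivial. -/
theorem eq_one_of_pow_p [Fact p.Prime] (hco : (Nat.card Δ).Coprime p) {v : Δ} {k : ℕ}
    (h : v ^ p ^ k = 1) : v = 1 :=
  orderOf_eq_one_iff.mp (Nat.eq_one_of_dvd_coprimes (Nat.Coprime.pow_right k hco)
    (orderOf_dvd_natCard v) (orderOf_dvd_of_pow_eq_one h))

theorem exists_pow_p [Fact p.Prime] {G : Subgroup Ω} (hG : IsPGroup p G) {x : Ω} (hx : x ∈ G) :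
    ∃ k, x ^ p ^ k = 1 :=
  let ⟨k, hk⟩ := hG ⟨x, hx⟩
  ⟨k, by simpa using congrArg Subtype.val hk⟩

theorem res_isIso [Finite S] (hT : F.StronglyClosed T) (a : F.autGroup S) :
    IsIso F T T (autFun (a : MulAut S)) := by
  have h := closed_autFun_image hT le_rfl a.2
  rw [inf_eq_left.mpr hT.1] at h
  exact ⟨((mem_autGroup le_rfl).mp a.2).1.mono hT.1, h⟩

/-- Restriction of the automorphisms of `S` to a strongly closed subgroup. -/
noncomputable def res [Finite S] (hT : F.StronglyClosed T) : ↥(F.autGroup S) →* ↥(F.autGroup T) where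
  toFun a := ⟨(res_isIso hT a).equiv, (res_isIso hT a).equiv_mem_autGroup⟩
  map_one' := by
    refine Subtype.ext (MulEquiv.ext fun x => Subtype.ext ?_)
    exact ((res_isIso hT 1).equiv_apply x).trans (autFun_one (hT.1 x.2))
  map_mul' a b := by
    refine Subtype.ext (MulEquiv.ext fun x => Subtype.ext ?_)
    show ((res_isIso hT (a * b)).equiv x : Ω) = ((res_isIso hT a).equiv ((res_isIso hT b).equiv x) : Ω)
    rw [IsIso.equiv_apply, IsIso.equiv_apply, IsIso.equiv_apply]
    exact autFun_mul _ _ (hT.1 x.2)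

theorem autFun_res [Finite S] (hT : F.StronglyClosed T) (a : F.autGroup S) :
    Set.EqOn (autFun (res hT a : MulAut T)) (autFun (a : MulAut S)) T := fun x hx =>
  (autFun_of_mem _ hx).trans ((res_isIso hT a).equiv_apply ⟨x, hx⟩)

/-- The setting: a character of `Aut_F(T)` of order prime to `p` trivial on `Aut_E(T)`, for a
saturated invariant subsystem `E` over `T`. -/
structure CharSetup (F : FusionSystem S) (p : ℕ) (E : FusionSystem T)
    (χ : ↥(F.autGroup T) →* Δ) : Prop where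
  hS : IsPGroup p S
  hF : F.IsSaturated p
  sat : E.IsSaturated p
  inv : E.IsInvariantIn F
  cop : (Nat.card Δ).Coprime p
  ker : ∀ β : ↥(F.autGroup T), (β : MulAut T) ∈ E.autGroup T → χ β = 1

variable {χ : ↥(F.autGroup T) →* Δ}

theorem CharSetup.closed (H : CharSetup F p E χ) : F.StronglyClosed T := H.inv.2.1

theorem CharSetup.sub (H : CharSetup F p E χ) : E.IsSubsystemOf F := H.inv.1

theorem CharSetup.le (H : CharSetup F p E χ) : T ≤ S := H.closed.1

theorem CharSetup.mem (H : CharSetup F p E χ) {R : Subgroup Ω} {f : Ω → Ω} (hf : IsMap F R f) {x : Ω}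
    (hx : x ∈ R) (hxT : x ∈ T) : f x ∈ T :=
  (stronglyClosed_iff.mp H.closed).2 R f hf x hx hxT

theorem CharSetup.image_le (H : CharSetup F p E χ) {R R' : Subgroup Ω} {f : Ω → Ω}
    (hf : IsIso F R R' f) (hR : R ≤ T) : R' ≤ T := fun y hy => by
  obtain ⟨x, hx, rfl⟩ := hf.exists_preimage hy
  exact H.mem hf.1 hx (hR hx)

theorem CharSetup.autT (H : CharSetup F p E χ) (β : ↥(F.autGroup T)) :
    IsIso F T T (autFun (β : MulAut T)) :=
  (mem_autGroup H.le).mp β.2

/-- `f` has value `v` on `U`: it is an automorphism `β` of `T` with `χ β = v` after a map of `E`. -/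
def XV (E : FusionSystem T) (χ : ↥(F.autGroup T) →* Δ) (U : Subgroup Ω) (f : Ω → Ω) (v : Δ) : Prop :=
  ∃ (β : ↥(F.autGroup T)) (e : Ω → Ω), IsMap E U e ∧ χ β = v ∧
    Set.EqOn f (autFun (β : MulAut T) ∘ e) U

theorem XV.congr {U : Subgroup Ω} {f f' : Ω → Ω} {v : Δ} (h : XV E χ U f v) (he : Set.EqOn f f' U) :
    XV E χ U f' v :=
  let ⟨β, e, h1, h2, h3⟩ := h
  ⟨β, e, h1, h2, he.symm.trans h3⟩

theorem XV.mono {U U' : Subgroup Ω} {f : Ω → Ω} {v : Δ} (h : XV E χ U f v) (hle : U' ≤ U) :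
    XV E χ U' f v :=
  let ⟨β, e, h1, h2, h3⟩ := h
  ⟨β, e, h1.mono hle, h2, h3.mono hle⟩

theorem xv_of_e {U : Subgroup Ω} {e : Ω → Ω} (he : IsMap E U e) : XV E χ U e 1 :=
  ⟨1, e, he, map_one χ, fun _ hx => (autFun_one (he.apply_mem hx)).symm⟩

theorem xv_aut {U : Subgroup Ω} (hU : U ≤ T) (β : ↥(F.autGroup T)) :
    XV E χ U (autFun (β : MulAut T)) (χ β) :=
  ⟨β, id, isMap_id hU, rfl, fun _ _ => rfl⟩

theorem XV.isMap (H : CharSetup F p E χ) {U : Subgroup Ω} {f : Ω → Ω} {v : Δ} (h : XV E χ U f v) :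
    IsMap F U f :=
  let ⟨β, _, he, _, hf⟩ := h
  ((he.of_isSubsystemOf H.sub).comp (H.autT β).1 fun _ hx => he.apply_mem hx).congr hf.symm

theorem xv_exists (H : CharSetup F p E χ) {U : Subgroup Ω} (hU : U ≤ T) {f : Ω → Ω}
    (hf : IsMap F U f) : ∃ v, XV E χ U f v := by
  obtain ⟨k, g, hk, hg, he⟩ := invariant_frattini H.inv hf hU
  obtain ⟨β, hβ, hβe⟩ := hk.exists_aut
  exact ⟨_, ⟨β, hβ⟩, g, hg, rfl, fun x hx => (he x hx).trans (hβe (hg.apply_mem hx)).symm⟩

theorem XV.comp (H : CharSetup F p E χ) {U U' : Subgroup Ω} {f f' : Ω → Ω} {v w : Δ}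
    (h : XV E χ U f v) (h' : XV E χ U' f' w) (hm : ∀ x ∈ U, f x ∈ U') :
    XV E χ U (f' ∘ f) (w * v) := by
  obtain ⟨β, e, he, rfl, hf⟩ := h
  obtain ⟨β', e', he', rfl, hf'⟩ := h'
  have hi : IsIso F T T (autFun ((β : MulAut T)⁻¹)) := H.autT β⁻¹
  obtain ⟨R, hR⟩ := (hi.1.mono he'.dom_le).exists_image
  obtain ⟨g, hg, hge⟩ := invariant_inv H.inv he' hi hR.2.symm
  refine ⟨β' * β, g ∘ e, he.comp hg fun x hx => ?_, map_mul χ _ _, fun x hx => ?_⟩
  · have := hR.mem (hm x hx)
    rwa [hf hx, Function.comp_apply, autFun_inv_apply _ (he.apply_mem hx)] at this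
  · have hx' := hm x hx
    have h1 := hge (f x) hx'
    rw [hf hx, Function.comp_apply, autFun_inv_apply _ (he.apply_mem hx)] at h1
    simp only [Function.comp_apply]
    rw [hf' hx', Function.comp_apply, h1, Subgroup.coe_mul,
      autFun_mul _ _ (autFun_mem _ (he'.apply_mem (by rwa [hf hx, Function.comp_apply] at hx'))),
      Function.comp_apply, hf hx, Function.comp_apply,
      autFun_apply_inv _ (he'.apply_mem (by rwa [hf hx, Function.comp_apply] at hx'))]

theorem eCentric_of_map (H : CharSetup F p E χ) {U U' : Subgroup Ω} (hU : E.IsCentric U)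
    {f : Ω → Ω} (hf : IsIso F U U' f) : E.IsCentric U' := by
  obtain ⟨k, g, hk, hg, he⟩ := invariant_frattini H.inv hf.1 hU.1
  obtain ⟨R, hR⟩ := hg.exists_image
  have hkR : k '' (R : Set Ω) = (U' : Set Ω) := by
    rw [← hR.2, Set.image_image, ← hf.2]
    exact Set.image_congr fun x hx => (he x hx).symm
  have hU'T : U' ≤ T := H.image_le hf hU.1
  refine ⟨hU'T, fun W hW c hc => ?_⟩
  obtain ⟨h, hh⟩ := isConj_iff.mp hW
  obtain ⟨ki, hki, hkl, hkr⟩ := hk.exists_inv
  have hRT : R ≤ T := hR.cod_le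
  have hkiU : (R : Set Ω) = ki '' (U' : Set Ω) := by
    rw [← hkR, Set.image_image]
    exact ((Set.image_congr fun x hx => hkl x (hRT hx)).trans (Set.image_id' _)).symm
  obtain ⟨g', hg', hg'e⟩ := invariant_inv H.inv hh.1 hki hkiU
  obtain ⟨W', hW'⟩ := hg'.exists_image
  have hW'c : E.IsConj U W' := isConj_trans hR.isConj hW'.isConj
  have hW'eq : (W' : Set Ω) = ki '' (W : Set Ω) := by
    rw [← hW'.2, hkiU, ← hh.2, Set.image_image, Set.image_image]
    exact Set.image_congr fun x hx => hg'e x hx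
  have hcW : ki c ∈ W' := by
    refine hU.2 W' hW'c ⟨hki.mem hc.1, Subgroup.mem_centralizer_iff.mpr fun y hy => ?_⟩
    have hy' : y ∈ ki '' (W : Set Ω) := hW'eq ▸ hy
    obtain ⟨z, hz, rfl⟩ := hy'
    rw [← hki.1.map_mul (hh.cod_le hz) hc.1, ← hki.1.map_mul hc.1 (hh.cod_le hz),
      Subgroup.mem_centralizer_iff.mp hc.2 z hz]
  have hc' : ki c ∈ ki '' (W : Set Ω) := hW'eq ▸ hcW
  obtain ⟨z, hz, hzc⟩ := hc'
  exact hki.1.injOn (hh.cod_le hz) hc.1 hzc ▸ hz

variable [Finite S] [Fact p.Prime]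

/-- An automorphism of `T` that is a map of `E` on an `E`-centric subgroup is killed by `χ`. -/
theorem chi_eq_one (H : CharSetup F p E χ) :
    ∀ (n : ℕ) (U : Subgroup Ω), Nat.card T - Nat.card U = n → E.IsCentric U →
      ∀ γ : ↥(F.autGroup T), IsMap E U (autFun (γ : MulAut T)) → χ γ = 1 := by
  intro n
  induction n using Nat.strong_induction_on with
  | _ n ih =>
  intro U hn hU γ hγ
  haveI : Finite T := finite_of_le H.le
  rcases hU.1.eq_or_lt with rfl | hlt
  · exact H.ker γ (autGroup_mem_of_isMap hγ)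
  have hTp : IsPGroup p T := H.hS.to_le H.le
  set N := normalizerIn T U with hNdef
  have hUN : U < N := lt_normalizerIn hTp hlt
  have hNT : N ≤ T := normalizerIn_le T U
  haveI := finite_of_le hNT
  haveI := finite_of_le hU.1
  -- uniqueness of values on subgroups as large as `N`
  have huniq : ∀ {N' : Subgroup Ω}, E.IsCentric N' → Nat.card N' = Nat.card N →
      ∀ {f : Ω → Ω} {v w : Δ}, XV E χ N' f v → XV E χ N' f w → v = w := by
    intro N' hN'c hcard f v w hv hw
    obtain ⟨β, e, he, rfl, hf⟩ := hv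
    obtain ⟨β', e', he', rfl, hf'⟩ := hw
    obtain ⟨R, hR⟩ := he.exists_image
    obtain ⟨ei, hei, hel, -⟩ := hR.exists_inv
    have hγ' : IsMap E R (autFun ((β'⁻¹ * β : ↥(F.autGroup T)) : MulAut T)) := by
      refine (hei.comp_map he').congr fun y hy => ?_
      obtain ⟨x, hx, rfl⟩ := hR.exists_preimage hy
      have h1 := (hf hx).symm.trans (hf' hx)
      simp only [Function.comp_apply] at h1 ⊢
      rw [hel x hx, Subgroup.coe_mul, Subgroup.coe_inv, autFun_mul _ _ (he.apply_mem hx),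
        Function.comp_apply, h1, autFun_inv_apply _ (he'.apply_mem hx)]
    have h2 : Nat.card U < Nat.card R := by
      rw [← hR.card_eq, hcard]
      exact lt_of_le_of_ne (Subgroup.card_le_of_le hUN.le) fun h =>
        hUN.ne (Subgroup.eq_of_le_of_card_ge hUN.le h.ge)
    have h3 : Nat.card R ≤ Nat.card T := Subgroup.card_le_of_le hR.cod_le
    have h4 := ih _ (by omega) R rfl (PrimeToP.isCentric_of_isConj hN'c hR.isConj) _ hγ'
    rw [map_mul, map_inv] at h4
    exact (inv_mul_eq_one.mp h4).symm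
  obtain ⟨U', hU'⟩ := hγ.exists_image
  have hU'c : E.IsCentric U' := PrimeToP.isCentric_of_isConj hU hU'.isConj
  have hext : IsExtendable T U (autFun (γ : MulAut T)) N := ⟨hNT, fun g hg =>
    ⟨hg.2, autFun (γ : MulAut T) g, autFun_mem _ hg.1, fun x hx =>
      (H.autT γ).1.map_conj hg.1 (hU.1 hx)⟩⟩
  obtain ⟨ψ, hψ, hψe⟩ := receptive_extend (receptive_of_fullyCentralized hTp H.sat
    (Fus93.isFullyCentralized_of_isCentric hU'c)) hU' hext
  rw [sup_eq_right.mpr hUN.le] at hψ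
  obtain ⟨N', hN'⟩ := ((H.autT γ).1.mono hNT).exists_image
  obtain ⟨γi, hγi, hγl, hγr⟩ := hN'.exists_inv
  have hψN : ∀ x ∈ N, ψ x ∈ N' := fun x hx => by
    have h1 : ψ x ∈ normalizerIn T U' := map_mem_normalizer hψ hUN.le
      ((Set.image_congr hψe).trans hU'.2) hx hx.2
    obtain ⟨y, hy, hyx⟩ := (H.autT γ).exists_preimage h1.1
    rw [← hyx]
    refine hN'.mem ⟨hy, Subgroup.mem_normalizer_iff.mpr fun z => ?_⟩
    have hconj : ∀ {z : Ω}, z ∈ T →
        autFun (γ : MulAut T) (y * z * y⁻¹) = ψ x * autFun (γ : MulAut T) z * (ψ x)⁻¹ :=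
      fun hz => by rw [(H.autT γ).1.map_conj hy hz, hyx]
    refine ⟨fun hz => ?_, fun hz => ?_⟩
    · have h2 : autFun (γ : MulAut T) (y * z * y⁻¹) ∈ U' := by
        rw [hconj (hU.1 hz)]
        exact conj_mem_of_mem_normalizer h1.2 (hU'.mem hz)
      obtain ⟨u, hu, hue⟩ := hU'.exists_preimage h2
      rwa [← (H.autT γ).1.injOn (hU.1 hu) (T.mul_mem (T.mul_mem hy (hU.1 hz)) (T.inv_mem hy)) hue]
    · have hzT : z ∈ T := by
        have := T.mul_mem (T.mul_mem (T.inv_mem hy) (hU.1 hz)) hy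
        simpa [mul_assoc] using this
      have h2 := hU'.mem hz
      rw [hconj hzT] at h2
      have h3 : autFun (γ : MulAut T) z ∈ U' := (Subgroup.mem_normalizer_iff.mp h1.2 _).mpr h2
      obtain ⟨u, hu, hue⟩ := hU'.exists_preimage h3
      rwa [← (H.autT γ).1.injOn (hU.1 hu) hzT hue]
  have hψN' : IsIso E N N' ψ := ⟨hψ, Set.Subset.antisymm (by rintro _ ⟨x, hx, rfl⟩; exact hψN x hx)
    fun y hy => surjOn_of_card_le ((H.image_le hN' hNT).trans H.le) hψ.injOn hψN hN'.card_eq.ge y hy⟩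
  set δ := γi ∘ ψ with hδ
  have hδi : IsIso F N N δ := IsIso.comp ⟨hψ.of_isSubsystemOf H.sub, hψN'.2⟩ hγi
  have hδU : ∀ u ∈ U, δ u = u := fun u hu => by
    rw [hδ, Function.comp_apply, hψe hu, hγl u (hUN.le hu)]
  have hδy : ∀ y ∈ N, y⁻¹ * δ y ∈ U := fun y hy => by
    refine hU.2 U (isConj_refl hU.1) ⟨T.mul_mem (T.inv_mem (hNT hy)) (hNT (hδi.mem hy)),
      Subgroup.mem_centralizer_iff.mpr fun u hu => ?_⟩
    have h1 := hδi.1.map_conj hy (hUN.le hu)
    rw [hδU u hu, hδU _ (conj_mem_of_mem_normalizer hy.2 hu)] at h1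
    calc u * (y⁻¹ * δ y) = y⁻¹ * (y * u * y⁻¹) * δ y := by group
      _ = y⁻¹ * (δ y * u * (δ y)⁻¹) * δ y := by rw [h1]
      _ = y⁻¹ * δ y * u := by group
  have hiter : ∀ (j : ℕ), ∀ y ∈ N, δ^[j] y = y * (y⁻¹ * δ y) ^ j := by
    intro j
    induction j with
    | zero => intro y _; simp
    | succ j ihj =>
      intro y hy
      rw [Function.iterate_succ_apply', ihj y hy, hδi.1.map_mul hy (hUN.le (pow_mem (hδy y hy) j)),
        hδU _ (pow_mem (hδy y hy) j)]
      rw [pow_succ', mul_assoc, mul_inv_cancel_left]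
  have hNc : E.IsCentric N := Fus93.isCentric_of_le hU hUN.le hNT
  obtain ⟨vδ, hvδ⟩ := xv_exists H hNT hδi.1
  have hpow : ∀ j : ℕ, XV E χ N (δ^[j]) (vδ ^ j) := by
    intro j
    induction j with
    | zero => rw [pow_zero]; exact xv_of_e (isMap_id hNT)
    | succ j ihj =>
      rw [pow_succ', Function.iterate_succ']
      refine ihj.comp H hvδ fun x hx => ?_
      clear ihj
      induction j with
      | zero => exact hx
      | succ i ihi => rw [Function.iterate_succ_apply']; exact hδi.mem ihi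
  obtain ⟨k, hk⟩ := (IsPGroup.iff_card.mp (hTp.to_le hU.1))
  have hδ1 : vδ = 1 := by
    refine eq_one_of_pow_p H.cop (k := k) (huniq hNc rfl (hpow _) ((xv_of_e (isMap_id hNT)).congr ?_))
    intro y hy
    have h1 : (y⁻¹ * δ y) ^ p ^ k = 1 := by
      have := pow_card_eq_one' (G := U) (x := ⟨_, hδy y hy⟩)
      rw [hk] at this
      simpa using congrArg Subtype.val this
    rw [hiter _ y hy, h1, mul_one]
    rfl
  have h1 : XV E χ N ψ (χ γ * vδ) := by
    refine (hvδ.comp H (xv_aut hNT γ) fun x hx => hδi.mem hx).congr fun x hx => ?_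
    rw [Function.comp_apply, hδ, Function.comp_apply, hγr _ (hψN x hx)]
  have h2 := huniq hNc rfl h1 (xv_of_e hψ)
  rwa [hδ1, mul_one] at h2

theorem XV.unique (H : CharSetup F p E χ) {U : Subgroup Ω} (hU : E.IsCentric U) {f : Ω → Ω}
    {v w : Δ} (hv : XV E χ U f v) (hw : XV E χ U f w) : v = w := by
  obtain ⟨β, e, he, rfl, hf⟩ := hv
  obtain ⟨β', e', he', rfl, hf'⟩ := hw
  obtain ⟨R, hR⟩ := he.exists_image
  obtain ⟨ei, hei, hel, -⟩ := hR.exists_inv
  have hγ' : IsMap E R (autFun ((β'⁻¹ * β : ↥(F.autGroup T)) : MulAut T)) := by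
    refine (hei.comp_map he').congr fun y hy => ?_
    obtain ⟨x, hx, rfl⟩ := hR.exists_preimage hy
    have h1 := (hf hx).symm.trans (hf' hx)
    simp only [Function.comp_apply] at h1 ⊢
    rw [hel x hx, Subgroup.coe_mul, Subgroup.coe_inv, autFun_mul _ _ (he.apply_mem hx),
      Function.comp_apply, h1, autFun_inv_apply _ (he'.apply_mem hx)]
  have h4 := chi_eq_one H _ R rfl (PrimeToP.isCentric_of_isConj hU hR.isConj) _ hγ'
  rw [map_mul, map_inv] at h4
  exact (inv_mul_eq_one.mp h4).symm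

/-- Generated maps have trivial value on `E`-centric subgroups. -/
theorem xv_gen (H : CharSetup F p E χ) {P : Subgroup Ω} {f : Ω → Ω} (hg : Gen F p P f) :
    ∀ U, U ≤ P → U ≤ T → E.IsCentric U → XV E χ U f 1 := by
  induction hg with
  | @conj P s hP hs =>
    intro U hUP hUT hU
    have ha : conjAutHom S S ⟨s, le_normalizerIn le_rfl hs⟩ ∈ F.autGroup S := by
      refine autInducedBy_le_autGroup le_rfl ?_
      rw [← range_conjAutHom]
      exact ⟨_, rfl⟩
    set a : ↥(F.autGroup S) := ⟨_, ha⟩ with hadef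
    obtain ⟨k, hk⟩ := exists_pow_p H.hS hs
    have hak : a ^ p ^ k = 1 := by
      refine Subtype.ext ?_
      rw [hadef]
      show (conjAutHom S S ⟨s, le_normalizerIn le_rfl hs⟩) ^ p ^ k = 1
      rw [← map_pow, show (⟨s, le_normalizerIn le_rfl hs⟩ : ↥(normalizerIn S S)) ^ p ^ k = 1 from
        Subtype.ext (by simpa using hk), map_one]
    have h1 : χ (res H.closed a) = 1 :=
      eq_one_of_pow_p H.cop (k := k) (by rw [← map_pow, ← map_pow, hak, map_one, map_one])
    refine h1 ▸ (xv_aut hUT _).congr fun x hx => ?_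
    rw [autFun_res H.closed a (hUT hx), hadef]
    exact autFun_of_mem _ (H.le (hUT hx))
  | @aut P Q a hQ ha hk hPQ =>
    intro U hUP hUT hU
    set W := T ⊓ Q with hW
    have hUW : U ≤ W := le_inf hUT (hUP.trans hPQ)
    have hWc : E.IsCentric W := Fus93.isCentric_of_le hU hUW inf_le_left
    have hiso := (mem_autGroup hQ.1).mp ha
    have hWi : IsIso F W W (autFun a) :=
      ⟨hiso.1.mono inf_le_right, closed_autFun_image H.closed hQ.1 ha⟩
    obtain ⟨v, hv⟩ := xv_exists H inf_le_left hWi.1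
    have hpow : ∀ j : ℕ, XV E χ W (autFun (a ^ j)) (v ^ j) := by
      intro j
      induction j with
      | zero => rw [pow_zero, pow_zero]; exact (xv_of_e (isMap_id inf_le_left)).congr fun x hx =>
          (autFun_one hx.2).symm
      | succ j ihj =>
        rw [pow_succ, pow_succ]
        refine (hv.comp H ihj fun x hx => hWi.mem hx).congr fun x hx => ?_
        rw [autFun_mul _ _ hx.2]
    obtain ⟨k, hk⟩ := hk
    have h0 : XV E χ W (autFun (a ^ p ^ k)) 1 := by
      rw [hk]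
      exact (xv_of_e (isMap_id inf_le_left)).congr fun x hx => (autFun_one hx.2).symm
    have h1 := XV.unique H hWc (hpow (p ^ k)) h0
    exact (eq_one_of_pow_p H.cop h1 ▸ hv).mono hUW
  | @comp P Q f g hf hg hm ihf ihg =>
    intro U hUP hUT hU
    obtain ⟨U', hU'⟩ := (hf.isMap.mono hUP).exists_image
    have h1 := ihg U' (fun y hy => by
      obtain ⟨x, hx, rfl⟩ := hU'.exists_preimage hy
      exact hm x (hUP hx)) (H.image_le hU' hUT) (eCentric_of_map H hU hU')
    simpa using (ihf U hUP hUT hU).comp H h1 fun x hx => hU'.mem hx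
  | @inv P Q f g hf him hl ihf =>
    intro U hUQ hUT hU
    have hi : IsIso F P Q f := ⟨hf.isMap, him⟩
    obtain ⟨k, hk, hkl, -⟩ := hi.exists_inv
    have hgk : IsIso F Q P g := hk.congr fun y hy => by
      obtain ⟨x, hx, rfl⟩ := hi.exists_preimage hy
      rw [hkl x hx, hl x hx]
    obtain ⟨U', hU'P, hU'⟩ := hgk.restrict hUQ
    obtain ⟨w, hw⟩ := xv_exists H hUT hU'.1
    have h1 := hw.comp H (ihf U' hU'P (H.image_le hU' hUT) (eCentric_of_map H hU hU'))
      fun x hx => hU'.mem hx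
    have h2 := XV.unique H hU h1 ((xv_of_e (isMap_id hUT)).congr fun y hy => by
      obtain ⟨x, hx, rfl⟩ := hi.exists_preimage (hUQ hy)
      rw [Function.comp_apply, hl x hx]; rfl)
    rw [one_mul] at h2
    exact h2 ▸ hw
  | @congr P f g _ he ih =>
    intro U hUP hUT hU
    exact (ih U hUP hUT hU).congr (he.mono hUP)

/-- The automorphisms of `S` whose restriction to `T` lies in the kernel of `χ`. -/
noncomputable def charD (hT : F.StronglyClosed T) (χ : ↥(F.autGroup T) →* Δ) : Subgroup (MulAut S) :=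
  (χ.comp (res hT)).ker.map (F.autGroup S).subtype

omit [Fact p.Prime] in
theorem mem_charD {hT : F.StronglyClosed T} {b : MulAut S} :
    b ∈ charD hT χ ↔ ∃ hb : b ∈ F.autGroup S, χ (res hT ⟨b, hb⟩) = 1 := by
  constructor
  · rintro ⟨a, ha, rfl⟩
    exact ⟨a.2, ha⟩
  · rintro ⟨hb, h⟩
    exact ⟨⟨b, hb⟩, h, rfl⟩

theorem charD_le {hT : F.StronglyClosed T} : charD hT χ ≤ F.autGroup S := by
  rintro _ ⟨a, -, rfl⟩
  exact a.2

theorem charD_conj {hT : F.StronglyClosed T} {a c : MulAut S} (ha : a ∈ charD hT χ)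
    (hc : c ∈ F.autGroup S) : c * a * c⁻¹ ∈ charD hT χ := by
  obtain ⟨ha', h⟩ := mem_charD.mp ha
  refine mem_charD.mpr ⟨mul_mem (mul_mem hc ha') (inv_mem hc), ?_⟩
  show χ (res hT (⟨c, hc⟩ * ⟨a, ha'⟩ * ⟨c, hc⟩⁻¹)) = 1
  rw [map_mul, map_mul, map_mul, map_mul, h, map_inv, map_inv, mul_one, mul_inv_cancel]

/-- The value on an `E`-centric subgroup of a map of given class. -/
theorem xv_of_cls (H : CharSetup F p E χ) {P U : Subgroup Ω} {f : Ω → Ω} {b : MulAut S}
    (h : Cls F p P f b) (hUP : U ≤ P) (hU : E.IsCentric U) :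
    ∃ hb : b ∈ F.autGroup S, XV E χ U f (χ (res H.closed ⟨b, hb⟩)) := by
  obtain ⟨hb, g, hg, he⟩ := h
  refine ⟨hb, ?_⟩
  obtain ⟨U', hU'⟩ := (hg.isMap.mono hUP).exists_image
  have hU'T := H.image_le hU' hU.1
  have h1 := (xv_gen H hg U hUP hU.1 hU).comp H (xv_aut hU'T (res H.closed ⟨b, hb⟩))
    fun x hx => hU'.mem hx
  rw [mul_one] at h1
  exact h1.congr fun x hx => (autFun_res H.closed _ (hU'T (hU'.mem hx))).trans (he (hUP hx)).symm

/-- The maps of `E` are in the class of `charD`. -/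
theorem fd_of_sub (H : CharSetup F p E χ) {P : Subgroup Ω} {f : Ω → Ω} (hf : IsMap E P f) :
    FD F p (charD H.closed χ) P f := by
  haveI : Finite T := finite_of_le H.le
  have hTp : IsPGroup p T := H.hS.to_le H.le
  refine alperin_induction hTp H.sat (fun P f => FD F p (charD H.closed χ) P f)
    (fun _ _ _ h he => h.congr he) (fun P Q f g hi _ h1 h2 => h1.comp h2 fun x hx => hi.mem hx)
    (fun _ _ _ _ hle h => h.mono hle) ?_ P f hf
  intro U hU f hf
  have hUc : E.IsCentric U := hU.elim (fun h => by subst h; exact isCentric_self) fun h => h.1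
  obtain ⟨b, hb⟩ := cls_exists H.hS H.hF (hf.1.of_isSubsystemOf H.sub)
  obtain ⟨hbA, hx⟩ := xv_of_cls H hb le_rfl hUc
  exact ⟨b, mem_charD.mpr ⟨hbA, XV.unique H hUc hx (xv_of_e hf.1)⟩, hb⟩

end Cfsg.Agent.PrimeIndex
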