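import Cfsg.Agent.PrimeIndex.Character

/-!
# The `p'`-residual of an invariant subsystem: tools

An element of `p`-power order of an automizer in an invariant subsystem over `T` becomes conjugation
by an element of `T`; an automorphism of `T` whose restriction to a centric subgroup lies in an
invariant saturated subsystem has a `p`-power in it.
-/

set_option autoImplicit false

namespace Cfsg.Agent.PrimeIndex

open Cfsg Cfsg.Agent.Fusion Cfsg.Agent.Fusion.PrimeToP
open Cfsg.FusionSystem (normalizerIn centralizerIn)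

variable {Ω : Type*} [Group Ω] {S : Subgroup Ω} {F : FusionSystem S} {p : ℕ}
  {T : Subgroup Ω} {E : FusionSystem T}

theorem trivSetup (hS : IsPGroup p S) (hF : F.IsSaturated p) (hE : E.IsWeaklyNormalIn F p) :
    CharSetup F p E (1 : ↥(F.autGroup T) →* PUnit.{1}) :=
  ⟨hS, hF, hE.1, hE.2.2, by simp, fun _ _ => rfl⟩

/-- Centric subgroups of an invariant subsystem are carried to centric subgroups. -/
theorem centric_of_map (hS : IsPGroup p S) (hE : E.IsWeaklyNormalIn F p) {U U' : Subgroup Ω}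
    (hU : E.IsCentric U) {f : Ω → Ω} (hf : IsIso F U U' f) : E.IsCentric U' :=
  eCentric_of_map (trivSetup hS hE.2.1 hE) hU hf

/-- Centric subgroups of two invariant subsystems over the same `T` are the same. -/
theorem centric_of_centric (hS : IsPGroup p S) (hE : E.IsWeaklyNormalIn F p) {E' : FusionSystem T}
    (hE' : E'.IsSubsystemOf F) {U : Subgroup Ω} (hU : E.IsCentric U) : E'.IsCentric U := by
  refine ⟨hU.1, fun Q hQ => ?_⟩
  obtain ⟨f, hf⟩ := isConj_iff.mp hQ
  have := centric_of_map hS hE hU (f := f) ⟨hf.1.of_isSubsystemOf hE', hf.2⟩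
  exact this.2 Q (isConj_refl this.1)

variable [Finite S] [Fact p.Prime]

/-- A `p`-element of `Aut_E(Q)` is conjugation by an element of `T` after moving `Q` to a fully
normalized subgroup. -/
theorem exists_conjT (hS : IsPGroup p S) (hE : E.IsWeaklyNormalIn F p) {Q : Subgroup Ω} (hQ : Q ≤ T)
    {a : MulAut Q} (ha : a ∈ E.autGroup Q) (hp : ∃ k, a ^ p ^ k = 1) :
    ∃ R θ t, F.IsFullyNormalized R ∧ R ≤ T ∧ IsIso F Q R θ ∧ t ∈ T ∧
      t ∈ Subgroup.normalizer (R : Set Ω) ∧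
      ∀ x ∈ Q, θ (autFun a x) = t * θ x * t⁻¹ := by
  obtain ⟨hEs, hF, hinv⟩ := hE
  have hT := hinv.2.1
  have hTS := hT.1
  have hTp := hS.to_le hTS
  haveI : Finite T := finite_of_le hTS
  obtain ⟨R, hQR, hRn⟩ := exists_fullyNormalized (F := F) (hQ.trans hTS)
  obtain ⟨θ, hθ⟩ := isConj_iff.mp hQR
  have hRT : R ≤ T := fun y hy => by
    obtain ⟨x, hx, rfl⟩ := hθ.exists_preimage hy
    exact (stronglyClosed_iff.mp hT).2 Q θ hθ.1 x hx (hQ hx)
  haveI := finite_of_le hRn.1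
  haveI := finite_mulAut R
  -- `R` is fully normalized in `E`
  have hRE : E.IsFullyNormalized R := by
    refine ⟨hRT, fun Y hY => ?_⟩
    obtain ⟨f, hf⟩ := isConj_iff.mp hY
    obtain ⟨v, hv, hvY, hvN⟩ := exists_normalizer_map hS (fullyAutomized_of_fullyNormalized hS hF hRn)
      (receptive_of_fullyNormalized hS hF hRn)
      (isConj_symm (IsIso.isConj (⟨hf.1.of_isSubsystemOf hinv.1, hf.2⟩ : IsIso F R Y f)))
    refine card_le_of_injOn ((normalizerIn_le T R).trans hTS)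
      (hv.injOn.mono fun x hx => (⟨hTS hx.1, hx.2⟩ : x ∈ normalizerIn S Y)) fun x hx => ?_
    have hxN : x ∈ normalizerIn S Y := ⟨hTS hx.1, hx.2⟩
    exact ⟨(stronglyClosed_iff.mp hT).2 _ v hv x hxN hx.1, (hvN x hxN).2⟩
  obtain ⟨U, hU⟩ := (fullyAutomized_of_fullyNormalized hTp hEs hRE).2
  -- the transported automorphism
  have hsi := strongInv_of_invariant hinv
  have ha' : MulAut.congr hθ.equiv a ∈ E.autGroup R := by
    have hai := (mem_autGroup hQ).mp ha
    obtain ⟨χ, hχ, hχe⟩ := hsi Q R Q (autFun a) θ le_rfl hQ hai.1 (fun x hx => hai.mem hx) hθ.1 hθ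
    refine autGroup_mem_of_isMap (hχ.congr fun y hy => ?_)
    obtain ⟨x, hx, rfl⟩ := hθ.exists_preimage hy
    rw [hχe x hx, autFun_of_mem _ hy, autFun_of_mem a hx]
    exact (congr_apply_equiv hθ a ⟨x, hx⟩).symm
  obtain ⟨k, hk⟩ := hp
  set a' : E.autGroup R := ⟨_, ha'⟩ with hadef
  have hz : IsPGroup p (Subgroup.zpowers a') := by
    have hord : a' ^ p ^ k = 1 := by
      refine Subtype.ext ?_
      rw [Subgroup.coe_pow, hadef]
      show (MulAut.congr hθ.equiv a) ^ p ^ k = 1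
      rw [← map_pow, hk, map_one]
    obtain ⟨n, -, hn⟩ := (Nat.dvd_prime_pow (Fact.out : p.Prime)).mp (orderOf_dvd_of_pow_eq_one hord)
    exact IsPGroup.of_card (n := n) (by rw [Nat.card_zpowers, hn])
  obtain ⟨V, hV⟩ := hz.exists_le_sylow
  obtain ⟨e, he⟩ := MulAction.exists_smul_eq (E.autGroup R) V U
  have hmem : e * a' * e⁻¹ ∈ (U : Subgroup (E.autGroup R)) := by
    rw [← he, Sylow.coe_subgroup_smul]
    exact ⟨a', hV (Subgroup.mem_zpowers a'), rfl⟩
  rw [hU, Subgroup.mem_subgroupOf, mem_autInducedBy] at hmem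
  obtain ⟨t, ht, hte⟩ := hmem
  have heF : (e : MulAut R) ∈ F.autGroup R := autGroup_mono (hinv.1 R) e.2
  refine ⟨R, autFun (e : MulAut R) ∘ θ, t, hRn, hRT, hθ.comp ((mem_autGroup hRn.1).mp heF), ht,
    mem_normalizer_of_induces hte, fun x hx => ?_⟩
  simp only [Function.comp_apply]
  rw [autFun_of_mem (e : MulAut R) (hθ.mem hx), ← hte, autFun_of_mem a hx]
  have h1 : θ (a ⟨x, hx⟩ : Ω) = ((a' : MulAut R) ⟨θ x, hθ.mem hx⟩ : Ω) :=
    (congr_apply_equiv hθ a ⟨x, hx⟩).symm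
  rw [h1, autFun_coe]
  show _ = (((e : MulAut R) ((a' : MulAut R) ((e : MulAut R).symm ((e : MulAut R) ⟨θ x, hθ.mem hx⟩)))) : Ω)
  rw [MulEquiv.symm_apply_apply]

/-- A subgroup containing the inner automorphisms and a `p`-power of an element of `Aut_E(T)`
contains the element, for saturated `E`. -/
theorem mem_of_pow_p_mem (hS : IsPGroup p S) (hE : E.IsSaturated p) (hTS : T ≤ S)
    {Y : Subgroup (MulAut T)} (hI : Cfsg.Inn T ≤ Y) {a : MulAut T} (ha : a ∈ E.autGroup T) {j : ℕ}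
    (h : a ^ p ^ j ∈ Y) : a ∈ Y := by
  haveI : Finite T := finite_of_le hTS
  haveI := finite_mulAut T
  obtain ⟨U, hU⟩ := (fullyAutomized_of_fullyNormalized (hS.to_le hTS) hE fullyNormalized_self).2
  rw [autInducedBy_self_eq_inn] at hU
  haveI : (U : Subgroup (E.autGroup T)).Normal := by rw [hU]; exact inn_subgroupOf_normal
  set q := QuotientGroup.mk' (U : Subgroup (E.autGroup T))
  have hco : Nat.Coprime (orderOf (q ⟨a, ha⟩)) p := by
    refine Nat.Coprime.coprime_dvd_left (orderOf_dvd_natCard _) ?_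
    rw [Nat.coprime_comm, (Fact.out : p.Prime).coprime_iff_not_dvd, ← Subgroup.index_eq_card]
    exact U.not_dvd_index
  obtain ⟨m, hm⟩ : ∃ m : ℕ, (q ⟨a, ha⟩ ^ p ^ j) ^ m = q ⟨a, ha⟩ :=
    exists_pow_eq_self_of_coprime ((hco.pow_right j).symm)
  rw [← map_pow, ← map_pow] at hm
  obtain ⟨u, hu, he⟩ : ∃ u ∈ (U : Subgroup (E.autGroup T)),
      ((⟨a, ha⟩ : E.autGroup T) ^ p ^ j) ^ m * u = ⟨a, ha⟩ :=
    ⟨_, (QuotientGroup.eq (s := (U : Subgroup (E.autGroup T)))).mp hm, mul_inv_cancel_left _ _⟩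
  rw [hU, Subgroup.mem_subgroupOf] at hu
  have h2 := mul_mem (Y.pow_mem h m) (hI hu)
  rwa [← show (a ^ p ^ j) ^ m * (u : MulAut T) = a from by
    simpa using congrArg Subtype.val he]

/-- An automorphism of `T` whose restriction to a centric subgroup is a map of an invariant
saturated subsystem `E` has a `p`-power in `Aut_E(T)`. -/
theorem exists_pow_mem (hS : IsPGroup p S) (hE : E.IsWeaklyNormalIn F p) :
    ∀ (n : ℕ) (U : Subgroup Ω), Nat.card T - Nat.card U = n → E.IsCentric U →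
      ∀ γ ∈ F.autGroup T, IsMap E U (autFun γ) → ∃ j, γ ^ p ^ j ∈ E.autGroup T := by
  obtain ⟨hEs, -, hinv⟩ := id hE
  have hTS := hinv.2.1.1
  haveI : Finite T := finite_of_le hTS
  intro n
  induction n using Nat.strong_induction_on with
  | _ n ih =>
  intro U hn hU γ hγF hγ
  rcases hU.1.eq_or_lt with rfl | hlt
  · exact ⟨0, by simpa using autGroup_mem_of_isMap hγ⟩
  have hTp := hS.to_le hTS
  set N := normalizerIn T U with hNdef
  have hUN : U < N := lt_normalizerIn hTp hlt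
  have hNT : N ≤ T := normalizerIn_le T U
  haveI := finite_of_le hNT
  haveI := finite_of_le hU.1
  have hγi := (mem_autGroup hTS).mp hγF
  have hγi' := (mem_autGroup hTS).mp (inv_mem hγF)
  obtain ⟨U', hU'⟩ := hγ.exists_image
  have hU'c : E.IsCentric U' := PrimeToP.isCentric_of_isConj hU hU'.isConj
  have hext : IsExtendable T U (autFun γ) N := ⟨hNT, fun g hg =>
    ⟨hg.2, autFun γ g, autFun_mem _ hg.1, fun x hx => hγi.1.map_conj hg.1 (hU.1 hx)⟩⟩
  obtain ⟨ψ, hψ, hψe⟩ := receptive_extend (receptive_of_fullyCentralized hTp hEs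
    (Fus93.isFullyCentralized_of_isCentric hU'c)) hU' hext
  rw [sup_eq_right.mpr hUN.le] at hψ
  set δ := autFun γ⁻¹ ∘ ψ with hδ
  have hδm : IsMap F N δ := (hψ.of_isSubsystemOf hinv.1).comp hγi'.1 fun x hx => hψ.apply_mem hx
  have hδU : ∀ u ∈ U, δ u = u := fun u hu => by
    rw [hδ, Function.comp_apply, hψe hu, autFun_inv_apply _ (hU.1 hu)]
  have hδN : ∀ y ∈ N, δ y ∈ N := fun y hy =>
    ⟨autFun_mem _ (hψ.apply_mem hy),
      (map_mem_normalizer hδm hUN.le ((Set.image_congr hδU).trans (Set.image_id' _)) hy hy.2).2⟩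
  have hδi : IsIso F N N δ := ⟨hδm, Set.Subset.antisymm (fun y ⟨x, hx, hy⟩ => hy ▸ hδN x hx)
    fun y hy => surjOn_of_card_le (hNT.trans hTS) hδm.injOn hδN le_rfl y hy⟩
  obtain ⟨ε, hε, hεl, hεr⟩ := hδi.exists_inv
  have hγψ : ∀ y ∈ N, autFun γ y = ψ (ε y) := fun y hy => by
    conv_lhs => rw [← hεr y hy, hδ, Function.comp_apply, autFun_apply_inv _ (hψ.apply_mem (hε.mem hy))]
  have hεU : ∀ u ∈ U, ε u = u := fun u hu => by
    conv_lhs => rw [← hδU u hu]
    exact hεl u (hUN.le hu)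
  have hεy : ∀ y ∈ N, y⁻¹ * ε y ∈ U := fun y hy => by
    refine hU.2 U (isConj_refl hU.1) ⟨T.mul_mem (T.inv_mem (hNT hy)) (hNT (hε.mem hy)),
      Subgroup.mem_centralizer_iff.mpr fun u hu => ?_⟩
    have h1 := hε.1.map_conj hy (hUN.le hu)
    rw [hεU u hu, hεU _ (conj_mem_of_mem_normalizer hy.2 hu)] at h1
    calc u * (y⁻¹ * ε y) = y⁻¹ * (y * u * y⁻¹) * ε y := by group
      _ = y⁻¹ * (ε y * u * (ε y)⁻¹) * ε y := by rw [h1]
      _ = y⁻¹ * ε y * u := by group
  have hiter : ∀ (j : ℕ), ∀ y ∈ N, ε^[j] y = y * (y⁻¹ * ε y) ^ j := by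
    intro j
    induction j with
    | zero => intro y _; simp
    | succ j ihj =>
      intro y hy
      rw [Function.iterate_succ_apply', ihj y hy, hε.1.map_mul hy (hUN.le (pow_mem (hεy y hy) j)),
        hεU _ (pow_mem (hεy y hy) j), pow_succ', mul_assoc, mul_inv_cancel_left]
  have hiterm : ∀ (j : ℕ), ∀ y ∈ N, ε^[j] y ∈ N := fun j y hy => by
    rw [hiter j y hy]; exact mul_mem hy (hUN.le (pow_mem (hεy y hy) j))
  -- powers of `γ` on `N`
  have hpow : ∀ j : ℕ, ∃ Ψ, IsMap E N Ψ ∧ ∀ y ∈ N, autFun (γ ^ j) y = Ψ (ε^[j] y) := by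
    intro j
    induction j with
    | zero => exact ⟨id, isMap_id hNT, fun y hy => by rw [pow_zero]; exact autFun_one (hNT hy)⟩
    | succ j ihj =>
      obtain ⟨Ψ, hΨ, hΨe⟩ := ihj
      obtain ⟨N', hN'⟩ := (hγi.1.mono hNT).exists_image
      obtain ⟨g, hg, hge⟩ := invariant_inv hinv hΨ hγi hN'.2.symm
      refine ⟨g ∘ ψ, hψ.comp hg fun y hy => ?_, fun y hy => ?_⟩
      · have h1 := hγψ (δ y) (hδN y hy)
        rw [hεl y hy] at h1
        exact h1 ▸ hN'.mem (hδN y hy)
      · have hm := hiterm j y hy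
        rw [pow_succ', autFun_mul _ _ (hNT hy), Function.comp_apply, hΨe y hy, ← hge _ hm, hγψ _ hm,
          Function.iterate_succ_apply']
        rfl
  obtain ⟨k, hk⟩ := IsPGroup.iff_card.mp (hTp.to_le hU.1)
  obtain ⟨Ψ, hΨ, hΨe⟩ := hpow (p ^ k)
  have hN : IsMap E N (autFun (γ ^ p ^ k)) := hΨ.congr fun y hy => by
    rw [hΨe y hy, hiter _ y hy]
    have h1 : (y⁻¹ * ε y) ^ p ^ k = 1 := by
      have := pow_card_eq_one' (G := U) (x := ⟨_, hεy y hy⟩)
      rw [hk] at this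
      simpa using congrArg Subtype.val this
    rw [h1, mul_one]
  have h2 : Nat.card U < Nat.card N := lt_of_le_of_ne (Subgroup.card_le_of_le hUN.le) fun h =>
    hUN.ne (Subgroup.eq_of_le_of_card_ge hUN.le h.ge)
  have h3 : Nat.card N ≤ Nat.card T := Subgroup.card_le_of_le hNT
  obtain ⟨j, hj⟩ := ih _ (by omega) N rfl (Fus93.isCentric_of_le hU hUN.le hNT) _ (pow_mem hγF _) hN
  exact ⟨k + j, by rwa [pow_add, pow_mul]⟩

/-- An invariant saturated subsystem contains the `p`-elements of the automizers of another one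
over the same subgroup. -/
theorem mem_autGroup_of_pElement (hS : IsPGroup p S) (hE : E.IsWeaklyNormalIn F p) {E' : FusionSystem T}
    (hE' : E'.IsWeaklyNormalIn F p) {Q : Subgroup Ω} (hQ : Q ≤ T) {a : MulAut Q}
    (ha : a ∈ E.autGroup Q) (hp : ∃ k, a ^ p ^ k = 1) : a ∈ E'.autGroup Q := by
  obtain ⟨R, θ, t, -, hRT, hθ, ht, htN, hte⟩ := exists_conjT hS hE hQ ha hp
  obtain ⟨θi, hθi, hθl, -⟩ := hθ.exists_inv
  have hc : IsMap E' R (fun x => t * x * t⁻¹) := isMap_conj hRT ht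
  obtain ⟨χ, hχ, hχe⟩ := strongInv_of_invariant hE'.2.2 R Q R _ θi le_rfl hRT hc
    (fun x hx => conj_mem_of_mem_normalizer htN hx) hθi.1 hθi
  refine autGroup_mem_of_isMap (hχ.congr fun x hx => ?_)
  have h1 := hχe (θ x) (hθ.mem hx)
  rw [hθl x hx, ← hte x hx, hθl _ (autFun_mem a hx)] at h1
  exact h1

/-- The least subsystem of index prime to `p` of `E` lies in every invariant saturated subsystem of
`F` over the same subgroup. -/
theorem residual_sub (hS : IsPGroup p S) (hE : E.IsWeaklyNormalIn F p) {E' : FusionSystem T}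
    (hE' : E'.IsWeaklyNormalIn F p) : (fdSystem E p (H0 E p)).IsSubsystemOf E' := by
  obtain ⟨hEs, hF, hinv⟩ := id hE
  have hTS := hinv.2.1.1
  have haut : ∀ Q, E.IsCentric Q → ∀ a ∈ E.autGroup Q, (∃ k, a ^ p ^ k = 1) → a ∈ E'.autGroup Q :=
    fun Q hQ a ha hk => mem_autGroup_of_pElement hS hE hE' hQ.1 ha hk
  have hH : H0 E p ≤ E'.autGroup T := by
    refine (Subgroup.closure_le _).mpr ?_
    rintro a ⟨ha, P, hP, hg⟩
    obtain ⟨j, hj⟩ := exists_pow_mem hS hE' _ P rfl (centric_of_centric hS hE hE'.2.2.1 hP) a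
      (autGroup_mono (hinv.1 T) ha) (hg.isMap_of haut)
    exact mem_of_pow_p_mem hS hEs hTS (inn_le_autGroup le_rfl) ha hj
  intro P
  refine hom_subset_of_isMap fun f hf => ?_
  obtain ⟨a, ha, -, g, hg, he⟩ := isMap_fdSystem.mp hf
  exact ((hg.isMap_of haut).comp ((mem_autGroup le_rfl).mp (hH ha)).1
    fun x hx => hg.isMap.apply_mem hx).congr he.symm

end Cfsg.Agent.PrimeIndex
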